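import Mathlib

/-!
Minimal normal subgroups and characteristically simple groups are direct powers of a
simple group.
-/

set_option autoImplicit false

namespace Cfsg.Agent.H3.CharSimple

variable {G : Type*} [Group G]

/-- Below every non-trivial normal subgroup of a finite group lies a minimal normal subgroup. -/
theorem exists_minimal_normal_le [Finite G] (K : Subgroup G) (hKn : K.Normal) (hK : K ≠ ⊥) :
    ∃ M : Subgroup G, M.Normal ∧ M ≠ ⊥ ∧ M ≤ K ∧
      ∀ L : Subgroup G, L.Normal → L ≤ M → L = ⊥ ∨ L = M := by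
  obtain ⟨M, hM, hmin⟩ := (Set.toFinite
    {L : Subgroup G | L.Normal ∧ L ≠ ⊥ ∧ L ≤ K}).exists_minimal ⟨K, hKn, hK, le_rfl⟩
  refine ⟨M, hM.1, hM.2.1, hM.2.2, fun L hL hLM => ?_⟩
  by_cases h : L = ⊥
  · exact Or.inl h
  · exact Or.inr (le_antisymm hLM (hmin ⟨hL, h, hLM.trans hM.2.2⟩ hLM))

/-- The image of a minimal normal subgroup under an automorphism is minimal normal. -/
theorem map_minimal (M : Subgroup G)
    (hmin : ∀ L : Subgroup G, L.Normal → L ≤ M → L = ⊥ ∨ L = M) (a : G ≃* G)
    (L : Subgroup G) (hL : L.Normal) (hLM : L ≤ M.map a.toMonoidHom) :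
    L = ⊥ ∨ L = M.map a.toMonoidHom := by
  have h1 : (L.comap a.toMonoidHom).Normal := hL.comap _
  have h2 : L.comap a.toMonoidHom ≤ M := by
    intro x hx
    obtain ⟨y, hy, hxy⟩ := hLM hx
    have : y = x := a.injective hxy
    exact this ▸ hy
  have h3 : L = (L.comap a.toMonoidHom).map a.toMonoidHom :=
    (Subgroup.map_comap_eq_self_of_surjective a.surjective L).symm
  rcases hmin _ h1 h2 with h | h
  · left; rw [h3, h, Subgroup.map_bot]
  · right; rw [h3, h]

/-- One step of the construction of the direct decomposition. -/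
theorem extend_step (M : Subgroup G) (hMn : M.Normal) (n : ℕ) (f : Fin n → MulAut G)
    (φ : (Fin n → M) →* G) (hφ : Function.Injective φ) (hn : φ.range.Normal)
    (hf : ∀ i (m : M), φ (Pi.mulSingle i m) = f i m) (a : MulAut G)
    (hdis : Disjoint (M.map a.toMonoidHom) φ.range) :
    ∃ φ' : (Fin (n + 1) → M) →* G, Function.Injective φ' ∧
      φ'.range = M.map a.toMonoidHom ⊔ φ.range ∧
      ∀ i (m : M), φ' (Pi.mulSingle i m) = (Fin.cons a f : Fin (n + 1) → MulAut G) i m := by
  have hMa : (M.map a.toMonoidHom).Normal := hMn.map _ a.surjective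
  let ψ : M →* G := a.toMonoidHom.comp M.subtype
  have hψ : Function.Injective ψ := a.injective.comp M.subtype_injective
  have hψr : ψ.range = M.map a.toMonoidHom := by
    rw [MonoidHom.range_comp, Subgroup.range_subtype]
  have hcomm : ∀ m x, Commute (ψ m) (φ x) := fun m x =>
    Subgroup.commute_of_normal_of_disjoint _ _ hMa hn hdis _ _
      (hψr ▸ ⟨m, rfl⟩) ⟨x, rfl⟩
  let τ : (Fin (n + 1) → M) →* M × (Fin n → M) :=
    { toFun := fun x => (x 0, Fin.tail x)
      map_one' := rfl
      map_mul' := fun _ _ => rfl }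
  have hτa : ∀ x, τ x = (x 0, Fin.tail x) := fun _ => rfl
  have hτ : Function.Bijective τ := by
    constructor
    · intro x y hxy
      have h0 : x 0 = y 0 := congrArg Prod.fst hxy
      have h1 : Fin.tail x = Fin.tail y := congrArg Prod.snd hxy
      rw [← Fin.cons_self_tail x, ← Fin.cons_self_tail y, h0, h1]
    · rintro ⟨m, x⟩
      exact ⟨Fin.cons m x, by simp [hτa]⟩
  refine ⟨(ψ.noncommCoprod φ hcomm).comp τ, ?_, ?_, ?_⟩
  · rw [MonoidHom.coe_comp]
    refine Function.Injective.comp ?_ hτ.1
    rw [MonoidHom.noncommCoprod_injective]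
    exact ⟨hψ, hφ, hψr ▸ hdis⟩
  · rw [MonoidHom.range_comp, MonoidHom.range_eq_top.mpr hτ.2, ← MonoidHom.range_eq_map,
      MonoidHom.noncommCoprod_range, hψr]
  · intro i m
    refine Fin.cases ?_ (fun j => ?_) i
    · have : Fin.tail (Pi.mulSingle (0 : Fin (n + 1)) m : Fin (n + 1) → M) = 1 := by
        funext j
        simp [Fin.tail]
      simp [hτa, this, ψ]
    · have h1 : Fin.tail (Pi.mulSingle j.succ m : Fin (n + 1) → M) = Pi.mulSingle j m := by
        funext k
        by_cases hk : k = j
        · subst hk; simp [Fin.tail]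
        · simp [Fin.tail, hk]
      simp [hτa, h1, hf]

/-- Let `A` be a group of automorphisms of a finite group `G` leaving no proper non-trivial normal
subgroup invariant, and `M` a minimal normal subgroup of `G`. Then `M` is simple and `G` is the
direct product of finitely many images of `M` under `A`. -/
theorem exists_power [Finite G] (A : Subgroup (MulAut G))
    (h : ∀ K : Subgroup G, K.Normal → (∀ a ∈ A, ∀ x ∈ K, a x ∈ K) → K = ⊥ ∨ K = ⊤)
    (M : Subgroup G) (hMn : M.Normal) (hM : M ≠ ⊥)
    (hmin : ∀ L : Subgroup G, L.Normal → L ≤ M → L = ⊥ ∨ L = M) :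
    ∃ (n : ℕ) (f : Fin n → MulAut G) (e : (Fin n → M) ≃* G), (∀ i, f i ∈ A) ∧ 0 < n ∧
      IsSimpleGroup M ∧ ∀ i (m : M), e (Pi.mulSingle i m) = f i m := by
  let S : Set (Subgroup G) := {K | ∃ (n : ℕ) (f : Fin n → MulAut G) (φ : (Fin n → M) →* G),
    (∀ i, f i ∈ A) ∧ Function.Injective φ ∧ φ.range.Normal ∧
    (∀ i (m : M), φ (Pi.mulSingle i m) = f i m) ∧ φ.range = K}
  have hS : S.Nonempty := by
    refine ⟨_, 0, Fin.elim0, 1, fun i => i.elim0, ?_, ?_, fun i => i.elim0, rfl⟩
    · intro x y _; exact Subsingleton.elim _ _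
    · rw [MonoidHom.range_one]; infer_instance
  obtain ⟨K, ⟨n, f, φ, hfA, hφ, hn, hf, rfl⟩, hmax⟩ := (Set.toFinite S).exists_maximal hS
  have hle : ∀ a ∈ A, M.map (MulEquiv.toMonoidHom a) ≤ φ.range := by
    intro a ha
    have hMa : (M.map (MulEquiv.toMonoidHom a)).Normal := hMn.map _ a.surjective
    rcases map_minimal M hmin a (M.map (MulEquiv.toMonoidHom a) ⊓ φ.range) inferInstance
      inf_le_left with h1 | h1
    · obtain ⟨φ', hφ', hr, hf'⟩ := extend_step M hMn n f φ hφ hn hf a (disjoint_iff.mpr h1)
      have hmem : φ'.range ∈ S := by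
        refine ⟨n + 1, Fin.cons a f, φ', ?_, hφ', ?_, hf', rfl⟩
        · intro i
          refine Fin.cases ?_ (fun j => ?_) i
          · simpa using ha
          · simpa using hfA j
        · rw [hr]; infer_instance
      have := hmax hmem (by rw [hr]; exact le_sup_right)
      rw [hr] at this
      exact le_sup_left.trans this
    · exact inf_eq_left.mp h1
  let K : Subgroup G := ⨆ a : A, M.map (MulEquiv.toMonoidHom (a : MulAut G))
  have hKn : K.Normal := by
    have : ∀ a : A, (M.map (MulEquiv.toMonoidHom (a : MulAut G))).Normal :=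
      fun a => hMn.map _ (a : MulAut G).surjective
    exact Subgroup.iSup_normal _
  have hKinv : ∀ a ∈ A, ∀ x ∈ K, a x ∈ K := by
    intro a ha
    have : K ≤ K.comap (MulEquiv.toMonoidHom a) := by
      refine iSup_le fun b => ?_
      rintro _ ⟨m, hm, rfl⟩
      refine Subgroup.mem_iSup_of_mem (⟨a, ha⟩ * b) ⟨m, hm, rfl⟩
    exact fun x hx => this hx
  have hMK : M ≤ K := fun m hm => Subgroup.mem_iSup_of_mem (1 : A) ⟨m, hm, rfl⟩
  have hK : K = ⊤ := (h K hKn hKinv).resolve_left fun h0 => hM (le_bot_iff.mp (h0 ▸ hMK))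
  have htop : φ.range = ⊤ := by
    rw [eq_top_iff, ← hK]
    exact iSup_le fun a => hle a a.2
  have hsurj : Function.Surjective φ := MonoidHom.range_eq_top.mp htop
  have hn0 : 0 < n := by
    rcases Nat.eq_zero_or_pos n with rfl | h0
    · exfalso
      apply hM
      rw [eq_bot_iff]
      intro m _
      obtain ⟨x, rfl⟩ := hsurj m
      rw [Subsingleton.elim x 1, map_one]
      exact Subgroup.one_mem _
    · exact h0
  refine ⟨n, f, MulEquiv.ofBijective φ ⟨hφ, hsurj⟩, hfA, hn0, ?_, hf⟩
  have : Nontrivial M := (Subgroup.nontrivial_iff_ne_bot M).mpr hM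
  refine ⟨fun L hL => ?_⟩
  let i : Fin n := ⟨0, hn0⟩
  let L' : Subgroup (Fin n → M) := L.map (MonoidHom.mulSingle (fun _ => M) i)
  have hL' : L'.Normal := by
    constructor
    rintro _ ⟨l, hl, rfl⟩ g
    refine ⟨g i * l * (g i)⁻¹, hL.conj_mem l hl _, ?_⟩
    funext j
    by_cases hj : j = i
    · subst hj; simp
    · simp [hj]
  have h1 : (L'.map φ).Normal := hL'.map φ hsurj
  have h2 : L'.map φ ≤ M.map (MulEquiv.toMonoidHom (f i)) := by
    rintro _ ⟨_, ⟨l, hl, rfl⟩, rfl⟩
    exact ⟨l, l.2, (hf i l).symm⟩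
  rcases map_minimal M hmin (f i) _ h1 h2 with h3 | h3
  · left
    rw [eq_bot_iff]
    intro l hl
    have : φ (Pi.mulSingle i l) ∈ L'.map φ := ⟨_, ⟨l, hl, rfl⟩, rfl⟩
    rw [h3, Subgroup.mem_bot, hf, map_eq_one_iff _ (f i).injective] at this
    exact Subtype.ext this
  · right
    rw [eq_top_iff]
    intro m _
    have : f i m ∈ L'.map φ := by rw [h3]; exact ⟨m, m.2, rfl⟩
    obtain ⟨_, ⟨l, hl, rfl⟩, h4⟩ := this
    have h5 : φ (Pi.mulSingle i l) = f i m := h4
    rw [hf] at h5
    have : l = m := Subtype.ext ((f i).injective h5)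
    exact this ▸ hl

/-- A finite group is isomorphic to a group whose carrier lives in `Type`. -/
theorem exists_small_model (M : Type*) [Group M] [Finite M] :
    ∃ (T : Type) (_ : Group T), Nonempty (M ≃* T) := by
  exact ⟨Shrink.{0} M, (equivShrink.{0} M).symm.group,
    ⟨((equivShrink.{0} M).symm.mulEquiv).symm⟩⟩

/-- A minimal normal subgroup `N` of a finite group `H` is the direct product of `H`-conjugates of
a simple normal subgroup `M` of `N`. -/
theorem minimal_normal_power {H : Type*} [Group H] [Finite H] (N : Subgroup H) [N.Normal]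
    (hN : N ≠ ⊥) (hmin : ∀ M : Subgroup H, M.Normal → M ≤ N → M = ⊥ ∨ M = N) :
    ∃ (M : Subgroup N) (n : ℕ) (f : Fin n → H) (e : (Fin n → M) ≃* N), M.Normal ∧ 0 < n ∧
      IsSimpleGroup M ∧
      ∀ i (m : M), ((e (Pi.mulSingle i m) : N) : H) = f i * ((m : N) : H) * (f i)⁻¹ := by
  have : Nontrivial N := (Subgroup.nontrivial_iff_ne_bot N).mpr hN
  obtain ⟨M, hMn, hM, -, hMmin⟩ := exists_minimal_normal_le (⊤ : Subgroup N) inferInstance
    top_ne_bot
  obtain ⟨n, f, e, hf, hn, hs, he⟩ := exists_power (MulAut.conjNormal (H := N)).range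
    (fun K _ hK => by
      have h1 : (K.map N.subtype).Normal := by
        constructor
        rintro _ ⟨k, hk, rfl⟩ g
        exact ⟨_, hK _ ⟨g, rfl⟩ k hk, by simp⟩
      rcases hmin _ h1 (Subgroup.map_subtype_le K) with h | h
      · left
        exact (Subgroup.map_eq_bot_iff_of_injective K N.subtype_injective).mp h
      · right
        apply Subgroup.map_injective N.subtype_injective
        rw [h, ← MonoidHom.range_eq_map, Subgroup.range_subtype]) M hMn hM hMmin
  choose g hg using hf
  refine ⟨M, n, g, e, hMn, hn, hs, fun i m => ?_⟩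
  rw [he, ← hg i]
  simp

/-- A minimal normal subgroup of a finite group is a direct power of a simple group. -/
theorem minimal_normal_equiv_pow {H : Type*} [Group H] [Finite H] (N : Subgroup H) [N.Normal]
    (hN : N ≠ ⊥) (hmin : ∀ M : Subgroup H, M.Normal → M ≤ N → M = ⊥ ∨ M = N) :
    ∃ (T : Type) (_ : Group T) (m : ℕ), IsSimpleGroup T ∧ 0 < m ∧
      Nonempty (N ≃* (Fin m → T)) := by
  obtain ⟨M, n, -, e, -, hn, hs, -⟩ := minimal_normal_power N hN hmin
  obtain ⟨T, _, ⟨t⟩⟩ := exists_small_model M
  exact ⟨T, inferInstance, n, t.symm.isSimpleGroup, hn,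
    ⟨e.symm.trans (MulEquiv.piCongrRight fun _ => t)⟩⟩

/-- A finite non-trivial characteristically simple group is a direct power of a simple group. -/
theorem charSimple_equiv_pow [Finite G] [Nontrivial G]
    (h : ∀ H : Subgroup G, H.Characteristic → H = ⊥ ∨ H = ⊤) :
    ∃ (S : Type) (_ : Group S) (_ : IsSimpleGroup S) (n : ℕ), 1 ≤ n ∧
      Nonempty (G ≃* (Fin n → S)) := by
  obtain ⟨M, hMn, hM, -, hMmin⟩ := exists_minimal_normal_le (⊤ : Subgroup G) inferInstance
    top_ne_bot
  obtain ⟨n, f, e, -, hn, hs, -⟩ := exists_power (⊤ : Subgroup (MulAut G))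
    (fun K _ hK => h K (Subgroup.characteristic_iff_le_comap.mpr
      fun a x hx => hK a (Subgroup.mem_top _) x hx)) M hMn hM hMmin
  obtain ⟨T, _, ⟨t⟩⟩ := exists_small_model M
  exact ⟨T, inferInstance, t.symm.isSimpleGroup, n, hn,
    ⟨e.symm.trans (MulEquiv.piCongrRight fun _ => t)⟩⟩

/-- A non-abelian simple group has trivial centre. -/
theorem center_eq_bot_of_simple {S : Type*} [Group S] [IsSimpleGroup S]
    (hS : ¬ IsMulCommutative S) : Subgroup.center S = ⊥ := by
  rcases Subgroup.Normal.eq_bot_or_eq_top (inferInstance : (Subgroup.center S).Normal) with h | h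
  · exact h
  · exfalso
    apply hS
    refine ⟨⟨fun a b => ?_⟩⟩
    have : b ∈ Subgroup.center S := h ▸ Subgroup.mem_top b
    exact Subgroup.mem_center_iff.mp this a

/-- A normal subgroup of a direct power of a non-abelian simple group containing an element with
non-trivial `i`-th coordinate contains the whole `i`-th factor. -/
theorem mulSingle_mem_of_normal {S : Type*} [Group S] [IsSimpleGroup S]
    (hS : ¬ IsMulCommutative S) {ι : Type*} [DecidableEq ι] (N : Subgroup (ι → S))
    (hN : N.Normal) {x : ι → S} (hx : x ∈ N) {i : ι} (hi : x i ≠ 1) (s : S) :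
    Pi.mulSingle i s ∈ N := by
  let L : Subgroup S := N.comap (MonoidHom.mulSingle (fun _ => S) i)
  have hL : L.Normal := hN.comap _
  rcases hL.eq_bot_or_eq_top with h | h
  · exfalso
    apply hi
    have : x i ∈ Subgroup.center S := by
      rw [Subgroup.mem_center_iff]
      intro t
      have h1 : (Pi.mulSingle i t : ι → S) * x * (Pi.mulSingle i t)⁻¹ * x⁻¹ ∈ N :=
        N.mul_mem (hN.conj_mem x hx _) (N.inv_mem hx)
      have h2 : (Pi.mulSingle i t : ι → S) * x * (Pi.mulSingle i t)⁻¹ * x⁻¹ =
          Pi.mulSingle i (t * x i * t⁻¹ * (x i)⁻¹) := by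
        funext j
        by_cases hj : j = i
        · subst hj; simp
        · simp [hj]
      have h3 : t * x i * t⁻¹ * (x i)⁻¹ ∈ L := by
        change Pi.mulSingle i _ ∈ N
        rw [← h2]; exact h1
      rw [h, Subgroup.mem_bot] at h3
      calc t * x i = (t * x i * t⁻¹ * (x i)⁻¹) * (x i * t) := by group
        _ = x i * t := by rw [h3, one_mul]
    rwa [center_eq_bot_of_simple hS, Subgroup.mem_bot] at this
  · have : s ∈ L := h ▸ Subgroup.mem_top s
    exact this

/-- Normal subgroups of a finite direct power of a non-abelian simple group are subproducts. -/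
theorem normal_subgroup_pow {S : Type*} [Group S] [IsSimpleGroup S]
    (hS : ¬ IsMulCommutative S) {ι : Type*} [Fintype ι] (N : Subgroup (ι → S)) (hN : N.Normal) :
    ∃ T : Finset ι, ∀ x : ι → S, x ∈ N ↔ ∀ i, i ∉ T → x i = 1 := by
  classical
  refine ⟨Finset.univ.filter fun i => ∃ x ∈ N, x i ≠ 1, fun x => ⟨fun hx i hi => ?_, fun h => ?_⟩⟩
  · by_contra h
    exact hi (Finset.mem_filter.mpr ⟨Finset.mem_univ _, x, hx, h⟩)
  · apply Subgroup.pi_mem_of_mulSingle_mem
    intro i
    by_cases hi : ∃ y ∈ N, y i ≠ 1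
    · obtain ⟨y, hy, hyi⟩ := hi
      exact mulSingle_mem_of_normal hS N hN hy hyi _
    · rw [h i (fun h' => hi (Finset.mem_filter.mp h').2)]
      simp

/-- A finite direct power of a simple group is characteristically simple. -/
theorem pow_charSimple {S : Type*} [Group S] [IsSimpleGroup S] {ι : Type*} [Finite ι]
    (N : Subgroup (ι → S)) (hN : N.Characteristic) : N = ⊥ ∨ N = ⊤ := by
  classical
  by_cases h0 : N = ⊥
  · exact Or.inl h0
  right
  obtain ⟨x, hx, hx1⟩ : ∃ x ∈ N, x ≠ 1 := by
    by_contra h
    push Not at h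
    exact h0 (eq_bot_iff.mpr fun x hx => h x hx)
  obtain ⟨i, hi⟩ : ∃ i, x i ≠ 1 := by
    by_contra h
    push Not at h
    exact hx1 (funext h)
  have hchar := Subgroup.characteristic_iff_le_comap.mp hN
  have hperm : ∀ (j k : ι) (s : S), Pi.mulSingle j s ∈ N → Pi.mulSingle k s ∈ N := by
    intro j k s hs
    have h1 := hchar (MulEquiv.arrowCongr (Equiv.swap j k) (MulEquiv.refl S)) hs
    have h2 : (MulEquiv.arrowCongr (Equiv.swap j k) (MulEquiv.refl S)) (Pi.mulSingle j s) =
        Pi.mulSingle k s := by
      funext l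
      by_cases hl : l = k
      · subst hl; simp
      · have : Equiv.swap j k l ≠ j := by
          intro h
          apply hl
          have := congrArg (Equiv.swap j k) h
          simpa using this
        simp [hl, this]
    exact h2 ▸ h1
  have key : ∀ s : S, Pi.mulSingle i s ∈ N := by
    by_cases hS : IsMulCommutative S
    · by_cases hι : ∃ j, j ≠ i
      · obtain ⟨j, hj⟩ := hι
        -- the shear automorphism multiplies coordinate `j` by coordinate `i`
        let a : (ι → S) ≃* (ι → S) :=
          { toFun := fun y => y * Pi.mulSingle j (y i)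
            invFun := fun y => y * Pi.mulSingle j (y i)⁻¹
            left_inv := fun y => by
              simp [hj.symm, mul_assoc, Pi.mulSingle_inv]
            right_inv := fun y => by
              simp [hj.symm, mul_assoc, Pi.mulSingle_inv]
            map_mul' := fun y z => by
              funext l
              simp only [Pi.mul_apply, Pi.mulSingle_mul, mul_assoc]
              congr 1
              rw [← mul_assoc, ← mul_assoc, hS.is_comm.comm (z l)] }
        have h1 : x * Pi.mulSingle j (x i) ∈ N := hchar a hx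
        have h2 : Pi.mulSingle j (x i) ∈ N := (N.mul_mem_cancel_left hx).mp h1
        have h3 := hperm j i _ h2
        let L : Subgroup S := N.comap (MonoidHom.mulSingle (fun _ => S) i)
        have hL : L.Normal := (inferInstance : N.Normal).comap _
        rcases hL.eq_bot_or_eq_top with h | h
        · exfalso
          have : x i ∈ L := h3
          rw [h] at this
          exact hi this
        · intro s
          have : s ∈ L := h ▸ Subgroup.mem_top s
          exact this
      · push Not at hι
        have h3 : Pi.mulSingle i (x i) ∈ N := by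
          convert hx using 1
          funext l
          rw [hι l]; simp
        let L : Subgroup S := N.comap (MonoidHom.mulSingle (fun _ => S) i)
        have hL : L.Normal := (inferInstance : N.Normal).comap _
        rcases hL.eq_bot_or_eq_top with h | h
        · exfalso
          have : x i ∈ L := h3
          rw [h] at this
          exact hi this
        · intro s
          have : s ∈ L := h ▸ Subgroup.mem_top s
          exact this
    · exact mulSingle_mem_of_normal hS N inferInstance hx hi
  rw [eq_top_iff]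
  intro y _
  exact Subgroup.pi_mem_of_mulSingle_mem y fun k => hperm i k _ (key _)

end Cfsg.Agent.H3.CharSimple
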