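import Cfsg.Agent.H3.E6OrdD

/-!
The order of the twisted group of type E6 over the field with four elements.
-/

set_option autoImplicit false
set_option linter.unusedSectionVars false
set_option linter.unusedSimpArgs false
set_option linter.style.haveILetI false
set_option maxRecDepth 100000

namespace Cfsg.Agent.H3.TwOrd

open Matrix hiding vec
open Cfsg.Lie Cfsg.Agent.H5.Ch SLD
open scoped MatrixGroups

theorem lq_inj {p p' : ℤ × ℤ × ℤ × ℤ} (h : vec 6 (lq p) = vec 6 (lq p')) : p = p' := by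
  have := vec_inj (a := lq p) (b := lq p') rfl rfl h
  simp only [lq, List.cons.injEq] at this
  exact Prod.ext this.1 (Prod.ext this.2.1 (Prod.ext this.2.2.1 this.2.2.2.1))

theorem B_gam : ∀ a ∈ rlE6, 0 ≤ latE6.B (vec 6 a) (twE6.gam (vec 6 a)) := by
  simp only [Lat.B_apply]; decide +kernel

theorem B_rho (i : Fin 6) : E6.B (al i) (vec 6 (lq (8, 11, 15, 21))) = 1 := by
  rw [E6.B_comm]
  exact (chkE6.B_vec_al latE6 rfl _ i).trans ((by decide :
    ∀ i : Fin 6, vec 6 (cv clE6 (lq (8, 11, 15, 21))) i = 1) i)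

theorem card_E6 {K : Type*} [Field K] [Fintype K] [CharP K 2] (hK : Fintype.card K = 4) :
    ∃ a b : ℕ, Nat.card (twistedE6 K 2) = 2 ^ a * (3 ^ b * 371231385525) := by
  classical
  have h2 : ∀ t : K, frobenius K 2 (frobenius K 2 t) = t := fun t => by
    rw [frobenius_def, frobenius_def, ← pow_mul, show 2 * 2 = 4 from rfl, ← hK, FiniteField.pow_card]
  have hn : (OC.map fun c => vec 6 (lq (dec c))).Nodup :=
    List.Nodup.map_on (fun a ha b hb e => by rw [← OC_enc a ha, lq_inj e, OC_enc b hb])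
      ((List.isChain_iff_pairwise.1 OC_sorted).imp ne_of_lt)
  have o2 : ∀ c ∈ OC, ∀ i, ∃ c' ∈ OC, dec c' = sq4 i (dec c) := fun c hc i =>
    ⟨_, mem_of_bits (OC_cl c hc i).1, (OC_cl c hc i).2⟩
  have o3 : ∀ c ∈ OC, ∃ L, vec 6 (lq (dec c)) = twE6.wl.W L (vec 6 (lq (8, 11, 15, 21))) := by
    intro c hc
    induction hk : (78 - (lq (dec c)).sum).toNat using Nat.strong_induction_on generalizing c with
    | _ k ih =>
    rcases (OC_up c hc).2 with e | ⟨i, e⟩
    · exact ⟨[], by rw [e]; rfl⟩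
    · obtain ⟨c', h3, h4⟩ := o2 c hc i
      have h5 := (OC_up c' h3).1
      obtain ⟨L, h6⟩ := ih _ (by rw [← h4] at e; omega) c' h3 rfl
      refine ⟨i :: L, ?_⟩
      rw [Wl.W_cons, LinearEquiv.mul_apply, ← h6, h4, ← wd_lq, ← LinearEquiv.mul_apply]
      exact (LinearEquiv.congr_fun (twE6.wl.inv i) _).symm
  have h3 := card_G0 twE6 (frobenius K 2) (q := 2) h2
    (fun s => Subtype.ext (funext fun i => by fin_cases i <;> rfl))
    (chkE6.all_root latE6 rfl (P := fun v => 0 ≤ latE6.B v (twE6.gam v)) B_gam)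
    (Nat.card_eq_two_iff.2 ⟨⟨0, map_zero _⟩, ⟨1, map_one _⟩, by simp, Set.eq_univ_of_forall
      fun t => by
        have := t.2
        rw [frobenius_def, sq, mul_right_eq_self₀] at this
        simpa [Subtype.ext_iff, or_comm] using this⟩)
    (by rw [Nat.card_eq_fintype_card, hK]; rfl) (ρ := vec 6 (lq (8, 11, 15, 21))) B_rho
    (OC.map fun c => vec 6 (lq (dec c))).toFinset
    (List.mem_toFinset.2 (List.mem_map.2 ⟨521202, by decide +kernel, rfl⟩))
    (fun v hv i => by
      obtain ⟨c, hc, rfl⟩ := List.mem_map.1 (List.mem_toFinset.1 hv)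
      obtain ⟨c', h3, h4⟩ := o2 c hc i
      exact List.mem_toFinset.2 (List.mem_map.2 ⟨c', h3, by rw [wd_lq, h4]⟩))
    fun v hv => by
      obtain ⟨c, hc, rfl⟩ := List.mem_map.1 (List.mem_toFinset.1 hv)
      exact o3 c hc
  have h4 : ∀ b, {r : E6.Φ | 0 < ht r.1 ∧ E6.B r.1 (vec 6 b) < 0}.ncard =
      (rlE6.drop 36).countP fun a => dot a (cv clE6 b) < 0 := fun b => by
    refine (ncard_root chkE6 latE6 rfl (fun v => 0 < ht v ∧ latE6.B v (vec 6 b) < 0)
      (fun a => decide (0 < ht (vec 6 a)) && decide (dot a (cv clE6 b) < 0)) fun a ha => by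
        have : latE6.B (vec 6 a) (vec 6 b) = _ := chkE6.B_vec latE6 rfl (chkE6.lens a ha).1.le b
        rw [← this, Bool.and_eq_true, decide_eq_true_eq, decide_eq_true_eq]; rfl).trans ?_
    have a1 : ∀ a ∈ rlE6.take 36, ¬ 0 < ht (vec 6 a) := by simp only [ht_apply]; decide +kernel
    have a2 : ∀ a ∈ rlE6.drop 36, 0 < ht (vec 6 a) := by simp only [ht_apply]; decide +kernel
    conv_lhs => rw [← List.take_append_drop 36 rlE6]
    rw [List.countP_append, List.countP_eq_zero.2 fun a ha => by simp [a1 a ha], zero_add]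
    exact List.countP_congr fun a ha => by simp [a2 a ha]
  rw [List.sum_toFinset _ hn, List.map_map] at h3
  simp only [Function.comp_def, h4, OC_sum] at h3
  obtain ⟨a, ha⟩ := (IsPGroup.iff_card (p := 2)
    (G := (E6.U K ⊓ twE6.G0 (frobenius K 2) : Subgroup _))).1 fun g => by
      obtain ⟨k, hk⟩ := U_two g.2.1
      exact ⟨k, Subtype.ext hk⟩
  haveI : Fact (Nat.Prime 3) := ⟨Nat.prime_three⟩
  obtain ⟨b, hb⟩ := (IsPGroup.iff_card (p := 3)
    (G := (E6.H K).subgroupOf (twE6.M (frobenius K 2)))).1 fun g => by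
      obtain ⟨-, χ, h⟩ := id g.2
      refine ⟨1, Subtype.ext (Subtype.ext ?_)⟩
      change g.1.1 ^ 3 = 1
      rw [pow_three']
      refine ((h.mul h).mul h).congr (w' := 1) (by simp) (fun _ => rfl) |>.eq_of IsN.one fun s _ => ?_
      have := FiniteField.pow_card_sub_one_eq_one _ (h.ne_zero s)
      rw [hK] at this
      rw [← this]
      simp [pow_succ, mul_assoc]
  refine ⟨a, b, ?_⟩
  rw [← ha, ← hb, ← h3]
  exact congrArg (fun G : Subgroup _ => Nat.card G) (twistedE6_eq _ (fun _ => rfl) h2)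

end Cfsg.Agent.H3.TwOrd
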