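import Mathlib

/-!
Normalisers of small abelian subgroups computed in central extensions.
-/

set_option autoImplicit false
set_option linter.unusedSectionVars false
set_option linter.style.haveILetI false

namespace Cfsg.Agent.H3.Loc

open Subgroup

variable {A G : Type*} [Group A] [Group G]

theorem mem_pair {x y : G} (h : Commute x y) {p : ℕ} (hp : p ≠ 0) (hx : x ^ p = 1) (hy : y ^ p = 1)
    {a : G} (ha : a ∈ closure {x, y}) : ∃ i j : ℕ, a = x ^ i * y ^ j := by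
  obtain ⟨p, rfl⟩ := Nat.exists_eq_succ_of_ne_zero hp
  induction ha using closure_induction with
  | mem a ha =>
    rcases ha with rfl | rfl
    exacts [⟨1, 0, by simp⟩, ⟨0, 1, by simp⟩]
  | one => exact ⟨0, 0, by simp⟩
  | mul a b _ _ h1 h2 =>
    obtain ⟨i, j, rfl⟩ := h1
    obtain ⟨k, l, rfl⟩ := h2
    exact ⟨i + k, j + l, by rw [pow_add, pow_add, (h.pow_pow k j).symm.mul_mul_mul_comm]⟩
  | inv a _ h1 =>
    obtain ⟨i, j, rfl⟩ := h1
    refine ⟨p * i, p * j, inv_eq_of_mul_eq_one_left ?_⟩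
    rw [(h.pow_pow i (p * j)).symm.mul_mul_mul_comm, ← pow_add, ← pow_add, ← Nat.succ_mul,
      ← Nat.succ_mul, pow_mul, pow_mul, hx, hy]
    simp

theorem pow_pair {x y : G} (h : Commute x y) {p : ℕ} (hx : x ^ p = 1) (hy : y ^ p = 1) (i j : ℕ) :
    (x ^ i * y ^ j) ^ p = 1 := by
  rw [(h.pow_pow i j).mul_pow, pow_right_comm, hx, pow_right_comm, hy]; simp

/-- Graphs of central extensions of exponent three. -/
structure Ext (Γ : Subgroup (A × G)) : Prop where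
  ker : ∀ a g, (a, g) ∈ Γ → (a ∈ center A ↔ g = 1)
  cube : ∀ a ∈ center A, a ^ 3 = 1

namespace Ext

variable {Γ : Subgroup (A × G)} (E : Ext Γ)
include E

theorem div_mem {a b : A} {g : G} (h : (a, g) ∈ Γ) (h' : (b, g) ∈ Γ) : a * b⁻¹ ∈ center A :=
  (E.ker _ _ (mul_mem h (inv_mem h'))).2 (mul_inv_cancel g)

theorem eq_of {a : A} {g g' : G} (h : (a, g) ∈ Γ) (h' : (a, g') ∈ Γ) : g = g' :=
  mul_inv_eq_one.1 ((E.ker (a * a⁻¹) _ (mul_mem h (inv_mem h'))).1 (by simp))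

theorem eq_of_pow {p : ℕ} (hp : Nat.Coprime p 3) {a b : A} {g : G} (h : (a, g) ∈ Γ) (h' : (b, g) ∈ Γ)
    (ha : a ^ p = 1) (hb : b ^ p = 1) : a = b := by
  have h1 := E.div_mem h h'
  have h2 : Commute (a * b⁻¹) b := (mem_center_iff.1 h1 b).symm
  have h3 := h2.mul_pow p
  rw [inv_mul_cancel_right, ha, hb, mul_one] at h3
  exact mul_inv_eq_one.1 ((pow_eq_one_iff_of_coprime hp).1 ⟨h3.symm, E.cube _ h1⟩)

theorem not_coatom {N : Subgroup G} {S : Subgroup A} (hS : center A ≤ S)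
    (h1 : ∀ g ∈ N, ∃ a ∈ S, (a, g) ∈ Γ) {y z : A} {y' z' : G} (hy : (y, y') ∈ Γ) (hz : (z, z') ∈ Γ)
    (h2 : y ∈ S) (h3 : y' ∉ N) (h4 : z ∉ S) : ¬ IsCoatom N := fun h => by
  obtain ⟨⟨a, _⟩, ⟨h5, h6, -⟩, rfl⟩ := ((SetLike.isCoatom_iff.1 h).2
    ((Γ ⊓ S.prod ⊤).map (MonoidHom.snd _ _)) y' (fun g hg => by
      obtain ⟨a, h5, h6⟩ := h1 g hg
      exact ⟨(a, g), ⟨h6, h5, trivial⟩, rfl⟩) h3 ⟨(y, y'), ⟨hy, h2, trivial⟩, rfl⟩).ge (mem_top z')
  exact h4 (by simpa using mul_mem (hS (E.div_mem hz h5)) h6)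

variable {p : ℕ} (hp : Nat.Coprime p 3) (hp0 : p ≠ 0) {x y : A} {x' y' : G} (hx : (x, x') ∈ Γ)
  (hy : (y, y') ∈ Γ) (c : Commute x y) (px : x ^ p = 1) (py : y ^ p = 1)

include hx in
theorem pow_img {p : ℕ} (px : x ^ p = 1) : x' ^ p = 1 :=
  (E.ker _ _ (pow_mem hx p)).1 (by simp [px])

include hx hy c in
theorem comm_img : Commute x' y' :=
  E.eq_of (mul_mem hx hy) (by simpa [c.eq] using mul_mem hy hx)

include hp hp0 hx hy c px py

theorem conj_eq {a b : A} {g b' : G} (ha : (a, g) ∈ Γ)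
    (hg : g ∈ normalizer (closure {x', y'} : Subgroup G)) (hb : (b, b') ∈ Γ)
    (h1 : b' ∈ closure {x', y'}) (pb : b ^ p = 1) : ∃ i j : ℕ, a⁻¹ * b * a = x ^ i * y ^ j := by
  obtain ⟨i, j, e⟩ := mem_pair (E.comm_img hx hy c) hp0 (E.pow_img hx px) (E.pow_img hy py)
    ((mem_normalizer_iff''.1 hg b').1 h1)
  refine ⟨i, j, E.eq_of_pow hp (mul_mem (mul_mem (inv_mem ha) hb) ha) ?_ ?_ (pow_pair c px py i j)⟩
  · exact e ▸ mul_mem (pow_mem hx i) (pow_mem hy j)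
  · simpa [pb] using conj_pow (a := a⁻¹) (b := b) (i := p)

theorem not_mem_norm {a : A} {g : G} (ha : (a, g) ∈ Γ) (h : ¬ Commute x (a⁻¹ * x * a)) :
    g ∉ normalizer (closure {x', y'} : Subgroup G) := fun hg => by
  obtain ⟨i, j, e⟩ := E.conj_eq hp hp0 hx hy c px py ha hg hx (subset_closure (by simp)) px
  exact h (e ▸ ((Commute.refl x).pow_right i).mul_right (c.pow_right j))

end Ext

theorem red_conj [Finite G] {p : ℕ} [Fact p.Prime] {P0 : Subgroup G} (h0 : IsPGroup p P0)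
    (h1 : ¬ p * Nat.card P0 ∣ Nat.card G)
    (h2 : ∀ P ≤ P0, P ≠ ⊥ → ¬ IsCoatom (normalizer (P : Set G))) (P : Subgroup G) (hP : IsPGroup p P)
    (h3 : P ≠ ⊥) : ¬ IsCoatom (normalizer (P : Set G)) := by
  obtain ⟨Q, hQ⟩ := hP.exists_le_sylow
  obtain ⟨g, hg⟩ := MulAction.exists_smul_eq G Q (h0.toSylow fun h => h1 (by
    rw [← P0.card_mul_index, mul_comm p]; exact Nat.mul_dvd_mul_left _ h))
  have h4 := h2 (P.map (MulAut.conj g).toMonoidHom) ((map_mono hQ).trans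
    (congrArg Sylow.toSubgroup hg).le) (by
      rwa [Ne, map_eq_bot_iff_of_injective _ (MulAut.conj g).injective])
  rw [← map_equiv_normalizer_eq] at h4
  exact fun h => h4 (((MulAut.conj g).mapSubgroup.isCoatom_iff _).2 h)

theorem eq_of_mem [Finite G] {p : ℕ} (hp : p.Prime) {P : Subgroup G} (hP : Nat.card P ∣ p) {g : G}
    (hg : g ∈ P) (h1 : g ≠ 1) : P = closure {g, 1} := by
  have h2 : closure {g, 1} ≤ P := (closure_le _).2 (by rintro _ (rfl | rfl); exacts [hg, one_mem _])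
  refine (eq_of_le_of_card_ge h2 ((Nat.le_of_dvd hp.pos hP).trans_eq ?_)).symm
  refine (((Nat.dvd_prime hp).1 ((card_dvd_of_le h2).trans hP)).resolve_left fun e => h1 ?_).symm
  exact mem_bot.1 (card_eq_one.1 e ▸ subset_closure (by simp))

theorem card_one {p : ℕ} [Fact p.Prime] {g : G} (hg : g ^ p = 1) (h1 : g ≠ 1) :
    Nat.card (closure {g, 1} : Subgroup G) = p := by
  rw [show closure {g, 1} = zpowers g from le_antisymm ((closure_le _).2 (by
    rintro _ (rfl | rfl); exacts [mem_zpowers _, one_mem _]))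
    (zpowers_le.2 (subset_closure (by simp))), Nat.card_zpowers, orderOf_eq_prime hg h1]

theorem red_one [Finite G] {p : ℕ} [Fact p.Prime] {g : G} (hg : g ^ p = 1) (h1 : g ≠ 1)
    (h2 : ¬ p ^ 2 ∣ Nat.card G)
    (h3 : ¬ IsCoatom (normalizer ((closure {g, 1} : Subgroup G) : Set G))) (P : Subgroup G)
    (hP : IsPGroup p P) (h4 : P ≠ ⊥) : ¬ IsCoatom (normalizer (P : Set G)) := by
  have h5 := card_one hg h1
  refine red_conj (P0 := closure {g, 1}) (IsPGroup.of_card (n := 1) (by rw [h5, pow_one]))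
    (by rwa [h5, ← sq]) (fun P h6 h7 => ?_) P hP h4
  rwa [eq_of_le_of_card_ge h6 (h5.trans_le ?_)]
  exact (((Nat.dvd_prime Fact.out).1 (h5 ▸ card_dvd_of_le h6)).resolve_left
    fun e => h7 (card_eq_one.1 e)).ge

theorem red_two [Finite G] {p : ℕ} [hp : Fact p.Prime] {x y : G} (c : Commute x y) (hx : x ^ p = 1)
    (hy : y ^ p = 1) (h0 : y ≠ 1) (h1 : ∀ j < p, x * y ^ j ≠ 1) (h2 : ¬ p ^ 3 ∣ Nat.card G)
    (h3 : ¬ IsCoatom (normalizer ((closure {x, y} : Subgroup G) : Set G)))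
    (h4 : ¬ IsCoatom (normalizer ((closure {y, 1} : Subgroup G) : Set G)))
    (h5 : ∀ j < p, ¬ IsCoatom (normalizer ((closure {x * y ^ j, 1} : Subgroup G) : Set G)))
    (P : Subgroup G) (hP : IsPGroup p P) (h6 : P ≠ ⊥) : ¬ IsCoatom (normalizer (P : Set G)) := by
  have p0 := hp.out.ne_zero
  have a1 : IsPGroup p (closure {x, y} : Subgroup G) := fun g => by
    obtain ⟨i, j, e⟩ := mem_pair c p0 hx hy g.2
    exact ⟨1, Subtype.ext (by rw [pow_one, coe_pow, e]; exact pow_pair c hx hy i j)⟩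
  obtain ⟨k, a2⟩ := IsPGroup.iff_card.1 a1
  have a3 : 2 ≤ k := by
    by_contra! h
    have b1 : Nat.card (closure {x, y} : Subgroup G) ∣ p := by
      rw [a2]; simpa using pow_dvd_pow p (Nat.le_of_lt_succ h)
    have b2 := (eq_of_mem hp.out b1 (subset_closure (by simp)) h0).le
      (inv_mem (subset_closure (show x ∈ ({x, y} : Set G) by simp)))
    obtain ⟨i, j, e⟩ := mem_pair (Commute.one_right y) p0 hy (one_pow _) b2
    refine h1 _ (Nat.mod_lt i hp.out.pos) ?_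
    rw [one_pow, mul_one] at e
    rw [← pow_eq_pow_mod _ hy, ← e, mul_inv_cancel]
  have a4 : k = 2 := le_antisymm (by
    by_contra! h
    exact h2 ((pow_dvd_pow p h).trans (a2 ▸ card_subgroup_dvd_card _))) a3
  subst a4
  refine red_conj a1 (by rwa [a2, ← pow_succ']) (fun P b1 b2 => ?_) P hP h6
  obtain ⟨k, b3, b4⟩ := (Nat.dvd_prime_pow hp.out).1 (a2 ▸ card_dvd_of_le b1)
  rcases b3.eq_or_lt with rfl | b3
  · rwa [eq_of_le_of_card_ge b1 (a2.trans b4.symm).le]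
  have b5 : Nat.card P ∣ p := by rw [b4]; simpa using pow_dvd_pow p (Nat.le_of_lt_succ b3)
  obtain ⟨⟨g, hg⟩, b6⟩ := ne_bot_iff_exists_ne_one.1 b2
  replace b6 : g ≠ 1 := fun e => b6 (Subtype.ext e)
  obtain ⟨i, j, rfl⟩ := mem_pair c p0 hx hy (b1 hg)
  by_cases b7 : p ∣ i
  · obtain ⟨i, rfl⟩ := b7
    rw [pow_mul, hx, one_pow, one_mul] at hg b6
    have b8 := eq_of_mem hp.out (card_one hy h0).dvd (pow_mem (subset_closure (by simp)) j) b6
    rwa [eq_of_mem hp.out b5 hg b6, ← b8]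
  · obtain ⟨m, -, b8⟩ := Nat.exists_mul_mod_eq_one_of_coprime
      ((Nat.coprime_comm.1 (hp.out.coprime_iff_not_dvd.2 b7))) hp.out.one_lt
    have b9 := pow_mem hg m
    rw [(c.pow_pow i j).mul_pow, ← pow_mul, ← pow_mul, pow_eq_pow_mod _ hx, b8, pow_one,
      pow_eq_pow_mod _ hy] at b9
    have b10 := Nat.mod_lt (j * m) hp.out.pos
    rw [eq_of_mem hp.out b5 b9 (h1 _ b10)]
    exact h5 _ b10

end Cfsg.Agent.H3.Loc
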