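import Cfsg.Agent.H3.LocA
import Cfsg.Agent.H2.E6Fi

/-!
Normalisers of small abelian subgroups of `²E₆(2)` lie in stabilisers of subspaces.
-/

set_option autoImplicit false
set_option linter.unusedSectionVars false
set_option linter.style.haveILetI false

namespace Cfsg.Agent.H3.Loc

open Subgroup Matrix Cfsg.Lie Cfsg.Agent.H2 Cfsg.Agent.H2.B27 CE

variable {K : Type*} [Field K] [CharP K 2]

variable (K) in
/-- The graph of the projection. -/
noncomputable def Gm : Subgroup (GL (Fin 27) K × twistedE6 K 2) :=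
  (Gam K chevE6 I6).comap ((MonoidHom.id _).prodMap (twistedE6 K 2).subtype)

theorem ex_lift (g : twistedE6 K 2) : ∃ a ∈ NS K, (a, g) ∈ Gm K := lift6 g.1 g.2

theorem ex_img {a : GL (Fin 27) K} (h : a ∈ Lf K) : ∃ g, (a, g) ∈ Gm K := by
  obtain ⟨g, hg⟩ := (mem_Lf.1 h).2 1 (one_pow 3)
  rw [mem_Gs, show dd (1 : K) (one_pow 3) = 1 from Units.ext (by simp [dd])] at hg
  rw [one_mul, inv_one, mul_one] at hg
  exact ⟨g, hg⟩

theorem ext_Gm [Fintype K] (hK : Fintype.card K = 4) : Ext (Gm K) :=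
  ⟨fun a g h => (gam_ker h).trans OneMemClass.coe_eq_one, fun a h => by
    obtain ⟨c, hc⟩ := mem_Zc.1 h
    have h3 : c ^ 3 = 1 := by
      simpa [hK] using FiniteField.pow_card_sub_one_eq_one c (by
        rintro rfl; exact a.ne_zero (by rw [hc, zero_smul]))
    exact Units.ext (by rw [Units.val_pow_eq_pow_val, hc, smul_pow, h3, one_pow, one_smul]; rfl)⟩

/-- Stabilisers of images of idempotents. -/
def St [Finite K] (e : Matrix (Fin 27) (Fin 27) K) (he : e * e = e) : Subgroup (GL (Fin 27) K) where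
  carrier := {a | e * (a * e) = a * e}
  one_mem' := by simpa using he
  mul_mem' := fun {a b} (ha : e * (a * e) = a * e) (hb : e * (b * e) = b * e) => by
    change e * ((a * b : GL (Fin 27) K) * e) = (a * b : GL (Fin 27) K) * e
    rw [Units.val_mul, mul_assoc, ← hb, ← mul_assoc a.1, ← mul_assoc e, ha]
  inv_mem' := fun {a} (ha : e * (a * e) = a * e) => by
    obtain ⟨k, hk⟩ := mem_powers_iff_mem_zpowers.2 (inv_mem (mem_zpowers a))
    rw [← hk]
    clear hk
    change e * ((a ^ k : GL (Fin 27) K) * e) = (a ^ k : GL (Fin 27) K) * e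
    induction k with
    | zero => simpa using he
    | succ k ih => rw [pow_succ', Units.val_mul, mul_assoc, ← ih, ← mul_assoc a.1, ← mul_assoc e, ha]

/-- Sums of powers. -/
noncomputable def sm (X k : ℕ) : ℕ := Nat.rec 0 (fun _ acc => Nat.xor one (mul4 X acc)) k

/-- The test for noncommuting elements. -/
noncomputable def ncm (X Y : ℕ) : Bool :=
  Nat.beq (mul4 Y Y) one && frc (mul4 Y (mul4 X Y)) fun V => !Nat.beq (mul4 X V) (mul4 V X)

/-- The test for the stabiliser of the fixed space. -/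
noncomputable def okL (p X1 X2 Y Z : ℕ) : Bool :=
  frc X1 fun X1 => frc X2 fun X2 => frc Y fun Y => frc Z fun Z =>
    frc (mul4 (sm X1 p) (sm X2 p)) fun P =>
      Nat.beq (pow4 X1 p) one && Nat.beq (pow4 X2 p) one && Nat.beq (mul4 X1 X2) (mul4 X2 X1) &&
      Nat.beq (mul4 X1 P) P && Nat.beq (mul4 X2 P) P && Nat.beq (mul4 P (mul4 Y P)) (mul4 Y P) &&
      !Nat.beq (mul4 P (mul4 Z P)) (mul4 Z P) && ncm X1 Y

variable {w : K} (hw : w ^ 2 = w + 1)
include hw

theorem sm_mul {X : ℕ} {M : Matrix (Fin 27) (Fin 27) K} (h : tm w X * M = M) (k : ℕ) :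
    tm w (sm X k) * M = (k : K) • M := by
  induction k with
  | zero => simp [sm, tm_zero]
  | succ k ih =>
    have h1 : ∀ k, tm w (sm X k) * tm w X = tm w X * tm w (sm X k) := fun k => by
      induction k with
      | zero => simp [sm, tm_zero]
      | succ k ih =>
        change tm w (Nat.xor _ (mul4 X (sm X k))) * _ = _ * tm w (Nat.xor _ (mul4 X (sm X k)))
        rw [tm_xor, tm_mul4 hw, tm_one, add_mul, mul_add, mul_assoc, ih, one_mul, mul_one]
    change tm w (Nat.xor _ (mul4 X (sm X k))) * _ = _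
    rw [tm_xor, tm_mul4 hw, tm_one, add_mul, ← h1, mul_assoc, h, ih, Nat.cast_succ, add_smul,
      one_smul, one_mul, add_comm]

theorem ncm_spec {X Y : ℕ} (h : ncm X Y = true) {x y : GL (Fin 27) K} (hx : x.1 = tm w X)
    (hy : y.1 = tm w Y) : ¬ Commute x (y⁻¹ * x * y) := fun e => by
  simp only [ncm, CE.frc_eq, Bool.and_eq_true, Nat.beq_eq, Bool.not_eq_true', ← Bool.not_eq_true] at h
  rw [show y⁻¹ = y from inv_eq_of_mul_eq_one_right (Units.ext (by
    rw [Units.val_mul, hy, ← tm_mul4 hw, h.1, tm_one]; rfl))] at e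
  refine h.2 (tm_inj hw (mul4_lt _ _) (mul4_lt _ _) ?_)
  simpa only [tm_mul4 hw, Units.val_mul, hx, hy, mul_assoc] using congrArg Units.val e.eq

theorem loc [Fintype K] (hK : Fintype.card K = 4) {p X1 X2 Y Z : ℕ} (h : okL p X1 X2 Y Z = true)
    (hp : Nat.Coprime p 3) (ho : Odd p) {x1 x2 y z : GL (Fin 27) K} (e1 : x1.1 = tm w X1)
    (e2 : x2.1 = tm w X2) (e3 : y.1 = tm w Y) (e4 : z.1 = tm w Z) (hy : y ∈ Lf K) (hz : z ∈ Lf K)
    {g1 g2 : twistedE6 K 2} (h1 : (x1, g1) ∈ Gm K) (h2 : (x2, g2) ∈ Gm K) :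
    (Commute g1 g2 ∧ g1 ^ p = 1 ∧ g2 ^ p = 1 ∧ g1 ≠ 1) ∧
      ¬ IsCoatom (normalizer ((closure {g1, g2} : Subgroup _) : Set (twistedE6 K 2))) := by
  simp only [okL, CE.frc_eq, Bool.and_eq_true, Nat.beq_eq, Bool.not_eq_true',
    ← Bool.not_eq_true] at h
  obtain ⟨⟨⟨⟨⟨⟨⟨a1, a2⟩, a3⟩, a4⟩, a5⟩, a6⟩, a7⟩, a8⟩ := h
  have E := ext_Gm hK
  have p1 : x1 ^ p = 1 := Units.ext (by
    rw [Units.val_pow_eq_pow_val, e1, ← tm_pow4 hw, a1, tm_one]; rfl)
  have p2 : x2 ^ p = 1 := Units.ext (by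
    rw [Units.val_pow_eq_pow_val, e2, ← tm_pow4 hw, a2, tm_one]; rfl)
  have c : Commute x1 x2 := Units.ext (by
    rw [Units.val_mul, Units.val_mul, e1, e2, ← tm_mul4 hw, a3, tm_mul4 hw])
  have n := ncm_spec hw a8 e1 e3
  refine ⟨⟨E.comm_img h1 h2 c, E.pow_img h1 p1, E.pow_img h2 p2, fun e =>
    n (mem_center_iff.1 ((E.ker _ _ h1).2 e) _).symm⟩, ?_⟩
  have b0 : (p : K) = 1 := by
    obtain ⟨k, rfl⟩ := ho
    simp [CharTwo.two_eq_zero]
  have b1 : ∀ M, x1.1 * M = M → x2.1 * M = M → tm w (mul4 (sm X1 p) (sm X2 p)) * M = M :=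
    fun M a b => by
      rw [e1] at a
      rw [e2] at b
      rw [tm_mul4 hw, mul_assoc, sm_mul hw b, b0, one_smul, sm_mul hw a, b0, one_smul]
  generalize mul4 (sm X1 p) (sm X2 p) = P at *
  have b2 : x1.1 * tm w P = tm w P := by rw [e1, ← tm_mul4 hw, a4]
  have b3 : x2.1 * tm w P = tm w P := by rw [e2, ← tm_mul4 hw, a5]
  have b4 : ∀ (x : GL (Fin 27) K) (i : ℕ), x.1 * tm w P = tm w P → (x ^ i).1 * tm w P = tm w P :=
    fun x i h => by
      induction i with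
      | zero => simp
      | succ i ih => rw [pow_succ, Units.val_mul, mul_assoc, h, ih]
  obtain ⟨y', b5⟩ := ex_img hy
  obtain ⟨z', b6⟩ := ex_img hz
  refine E.not_coatom (S := St (tm w P) (b1 _ b2 b3)) (fun a ha => ?_) (fun g hg => ?_) b5 b6 ?_
    (E.not_mem_norm hp ho.pos.ne' h1 h2 c p1 p2 b5 n) fun e => a7 ?_
  · obtain ⟨c, hc⟩ := mem_Zc.1 ha
    change _ * (a.1 * _) = a.1 * _
    rw [hc, smul_mul_assoc, one_mul, mul_smul_comm, b1 _ b2 b3]
  · obtain ⟨a, -, ha⟩ := ex_lift g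
    have key : ∀ {x x'}, (x, x') ∈ Gm K → x' ∈ closure {g1, g2} → x ^ p = 1 →
        x.1 * (a.1 * tm w P) = a.1 * tm w P := fun {x x'} c1 c2 c3 => by
      obtain ⟨i, j, e⟩ := E.conj_eq hp ho.pos.ne' h1 h2 c p1 p2 ha hg c1 c2 c3
      rw [← mul_assoc, ← Units.val_mul, show x * a = a * (x1 ^ i * x2 ^ j) by rw [← e]; group,
        Units.val_mul, Units.val_mul, mul_assoc, mul_assoc, b4 _ _ b3, b4 _ _ b2]
    exact ⟨a, b1 _ (key h1 (subset_closure (by simp)) p1) (key h2 (subset_closure (by simp)) p2), ha⟩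
  · change _ * (y.1 * _) = y.1 * _
    rw [e3, ← tm_mul4 hw, ← tm_mul4 hw, a6]
  · refine tm_inj hw (mul4_lt _ _) (mul4_lt _ _) ?_
    rw [tm_mul4 hw, tm_mul4 hw, ← e4]
    exact e

end Cfsg.Agent.H3.Loc
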