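import Cfsg.Agent.H3.LocB

/-!
The normaliser of an element of order nineteen of `²E₆(2)`.
-/

set_option autoImplicit false
set_option linter.unusedSectionVars false
set_option linter.style.haveILetI false
set_option exponentiation.threshold 800

namespace Cfsg.Agent.H3.Loc

open Subgroup Matrix Cfsg.Lie Cfsg.Agent.H2 Cfsg.Agent.H2.B27 CE

variable {K : Type*} [Field K]

/-- Triples. -/
abbrev T3 := Fin 27 × Fin 27 × Fin 27

/-- The monomials of the cubic form. -/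
def TR : List T3 := [
  (0, 12, 26), (0, 15, 25), (0, 17, 24), (0, 19, 23), (0, 21, 22), (1, 10, 26), (1, 13, 25), (1,
  16, 24), (1, 18, 23), (1, 20, 22), (2, 8, 26), (2, 11, 25), (2, 14, 24), (2, 18, 21), (2, 19,
  20), (3, 6, 26), (3, 9, 25), (3, 14, 23), (3, 16, 21), (3, 17, 20), (4, 5, 26), (4, 7, 25), (4,
  14, 22), (4, 16, 19), (4, 17, 18), (5, 9, 24), (5, 11, 23), (5, 13, 21), (5, 15, 20), (6, 7,
  24), (6, 11, 22), (6, 13, 19), (6, 15, 18), (7, 8, 23), (7, 10, 21), (7, 12, 20), (8, 9, 22),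
  (8, 13, 17), (8, 15, 16), (9, 10, 19), (9, 12, 18), (10, 11, 17), (10, 14, 15), (11, 12, 16),
  (12, 13, 14)]

/-- Cubic forms given by monomials. -/
def cl (l : List T3) (v : Fin 27 → K) : K := (l.map fun t => v t.1 * v t.2.1 * v t.2.2).sum

theorem cub_eq (v : Fin 27 → K) : cub v = cl TR v := by
  simp only [cub, cl, TR, List.map_cons, List.map_nil, List.sum_cons, List.sum_nil, add_zero,
    add_assoc]

/-- Permuted triples. -/
def p6 (l : List T3) : List T3 := l.flatMap fun t => [(t.1, t.2.1, t.2.2), (t.2.1, t.1, t.2.2),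
  (t.1, t.2.2, t.2.1), (t.2.2, t.1, t.2.1), (t.2.1, t.2.2, t.1), (t.2.2, t.2.1, t.1)]

variable (K) in
/-- The matrices of the polarisation. -/
def Am (l : List T3) : (Fin 27 → K) →ₗ[K] Matrix (Fin 27) (Fin 27) K :=
  (l.map fun t => singleLinearMap K t.1 t.2.1 ∘ₗ LinearMap.proj t.2.2).sum

theorem Am_cons (t : T3) (l : List T3) (z : Fin 27 → K) :
    Am K (t :: l) z = single t.1 t.2.1 (z t.2.2) + Am K l z := rfl

theorem pol (l : List T3) (u v z : Fin 27 → K) : u ⬝ᵥ Am K (p6 l) z *ᵥ v =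
    cl l (u + v + z) - cl l (u + v) - cl l (u + z) - cl l (v + z) + cl l u + cl l v + cl l z := by
  induction l with
  | nil => simp [cl, Am, p6]
  | cons t l ih =>
    have h : ∀ i j (c : K), u ⬝ᵥ single i j c *ᵥ v = u i * (c * v j) := fun i j c => by
      rw [single_mulVec]
      exact dotProduct_single u _ i
    change u ⬝ᵥ Am K (_ :: _ :: _ :: _ :: _ :: _ :: p6 l) z *ᵥ v = _
    simp only [Am_cons, add_mulVec, dotProduct_add, h, ih]
    simp only [cl, List.map_cons, List.sum_cons, Pi.add_apply]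
    ring

theorem Am_inv {a : GL (Fin 27) K} (ha : a ∈ NS K) (z : Fin 27 → K) :
    a.1ᵀ * Am K (p6 TR) (a.1 *ᵥ z) * a.1 = Am K (p6 TR) z := by
  have h : ∀ u v, u ⬝ᵥ (a.1ᵀ * Am K (p6 TR) (a.1 *ᵥ z) * a.1) *ᵥ v = u ⬝ᵥ Am K (p6 TR) z *ᵥ v :=
    fun u v => by
      have h1 : ∀ v, cub (a.1 *ᵥ v) = cub v := ha
      rw [← mulVec_mulVec, ← mulVec_mulVec, dotProduct_mulVec, vecMul_transpose, pol, pol]
      simp only [← cub_eq, ← mulVec_add, h1]
  ext i j
  simpa using h (Pi.single i 1) (Pi.single j 1)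

/-- Twisted averages. -/
def Rm (x A : Matrix (Fin 27) (Fin 27) K) (s k : ℕ) : Matrix (Fin 27) (Fin 27) K :=
  ((List.range k).map fun m => (x ^ (s * m))ᵀ * A * x ^ m).sum

theorem Rm_pow {x : Matrix (Fin 27) (Fin 27) K} (hx : x ^ 19 = 1) (A : Matrix (Fin 27) (Fin 27) K)
    (s : ℕ) {j : ℕ} (h1 : j < 19) (h2 : j ≠ 0) : Rm (x ^ j) A s 19 = Rm x A s 19 := by
  have h : ∀ j < 19, j ≠ 0 → ((List.range 19).map fun m => j * m % 19).Perm (List.range 19) := by
    decide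
  rw [Rm, Rm]
  refine Eq.trans ?_ ((h j h1 h2).map _).sum_eq
  rw [List.map_map]
  refine congrArg _ (List.map_congr_left fun m _ => ?_)
  rw [Function.comp_apply, ← pow_eq_pow_mod _ hx, mul_comm s (_ % _), pow_mul x (_ % _),
    ← pow_eq_pow_mod _ hx, ← pow_mul, ← pow_mul, ← pow_mul, mul_comm s m, mul_assoc j]

theorem Rm_conj {x y a A : Matrix (Fin 27) (Fin 27) K} (h : SemiconjBy a y x) (s k : ℕ) :
    aᵀ * Rm x A s k * a = Rm y (aᵀ * A * a) s k := by
  rw [Rm, Rm, ← List.sum_map_mul_left, ← List.sum_map_mul_right]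
  refine congrArg _ (List.map_congr_left fun m _ => ?_)
  rw [mul_assoc, mul_assoc, ← (h.pow_right m).eq, ← mul_assoc, ← mul_assoc, ← mul_assoc,
    ← transpose_mul, ← (h.pow_right _).eq, transpose_mul]
  simp only [mul_assoc]

theorem Rm_sum (x : Matrix (Fin 27) (Fin 27) K) (s k : ℕ) (z : Fin 27 → K)
    (A : Fin 27 → Matrix (Fin 27) (Fin 27) K) :
    Rm x (∑ i, z i • A i) s k = ∑ i, z i • Rm x (A i) s k := by
  induction k with
  | zero => simp [Rm]
  | succ k ih =>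
    simp only [Rm, List.range_succ, List.map_append, List.sum_append, List.map_singleton,
      List.sum_singleton, smul_add, Finset.sum_add_distrib] at ih ⊢
    rw [ih, Finset.mul_sum, Finset.sum_mul]
    simp only [mul_smul_comm, smul_mul_assoc]

theorem rad_inv {x a : GL (Fin 27) K} (hx : x ^ 19 = 1) (ha : a ∈ NS K) {j : ℕ} (h1 : j < 19)
    (h2 : j ≠ 0) (h : a⁻¹ * x * a = x ^ j) {s : ℕ} {e : Matrix (Fin 27) (Fin 27) K}
    (he : ∀ k, Rm x.1 (Am K (p6 TR) (Pi.single k 1)) s 19 * e = 0) (z : Fin 27 → K) :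
    Rm x.1 (Am K (p6 TR) z) s 19 * (a.1 * e) = 0 := by
  have h3 : ∀ z, Rm x.1 (Am K (p6 TR) z) s 19 * e = 0 := fun z => by
    rw [pi_eq_sum_univ' z, map_sum]
    simp only [map_smul, Rm_sum, Finset.sum_mul, smul_mul_assoc, he, smul_zero,
      Finset.sum_const_zero]
  have h4 := Rm_conj (a := a.1) (y := x.1 ^ j) (x := x.1) (A := Am K (p6 TR) z) (by
    rw [SemiconjBy, ← Units.val_pow_eq_pow_val, ← h, ← Units.val_mul, ← Units.val_mul]
    congr 1; group) s 19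
  rw [Rm_pow (by rw [← Units.val_pow_eq_pow_val, hx]; rfl) _ _ h1 h2] at h4
  have h5 := Am_inv ha (a⁻¹.1 *ᵥ z)
  rw [show a.1 *ᵥ (a⁻¹.1 *ᵥ z) = z by rw [mulVec_mulVec, Units.mul_inv, one_mulVec]] at h5
  have h6 : a⁻¹.1ᵀ * (a.1ᵀ * Rm x.1 (Am K (p6 TR) z) s 19 * a.1 * e) = 0 := by
    rw [h4, h5, h3 (a⁻¹.1 *ᵥ z)]
    exact mul_zero _
  rwa [mul_assoc, mul_assoc, ← mul_assoc, ← transpose_mul, Units.mul_inv, transpose_one, one_mul] at h6

/-- Elements commuting with a matrix up to scalars. -/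
def Sc (H : Matrix (Fin 27) (Fin 27) K) : Subgroup (GL (Fin 27) K) where
  carrier := {a | ∃ c : K, c ≠ 0 ∧ a * H = c • (H * a)}
  one_mem' := ⟨1, one_ne_zero, by simp⟩
  mul_mem' := by
    rintro a b ⟨c, h1, h2⟩ ⟨d, h3, h4⟩
    exact ⟨d * c, mul_ne_zero h3 h1, by
      rw [Units.val_mul, mul_assoc, h4, mul_smul_comm, ← mul_assoc, h2, smul_mul_assoc, smul_smul,
        mul_assoc]⟩
  inv_mem' := by
    rintro a ⟨c, h1, h2⟩
    refine ⟨c⁻¹, inv_ne_zero h1, ?_⟩
    rw [Units.inv_mul_eq_iff_eq_mul, mul_smul_comm, ← mul_assoc, h2, smul_mul_assoc, smul_smul,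
      inv_mul_cancel₀ h1, one_smul, Units.mul_inv_cancel_right]

/-- Packed polarisation matrices. -/
noncomputable def Ap (l : List T3) (k : ℕ) : ℕ :=
  l.rec 0 fun t _ acc => cond (Nat.beq t.2.2 k) (Nat.xor (Nat.pow 2 (27 * t.2.1 + t.1)) acc) acc

/-- Packed twisted averages. -/
noncomputable def rp (T X A k : ℕ) : ℕ := Nat.rec 0 (fun _ acc => Nat.xor A (mul4 T (mul4 acc X))) k

/-- Evaluation of polynomials. -/
noncomputable def hor (c : List ℕ) (M : ℕ) : ℕ :=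
  c.rec 0 fun a _ acc => Nat.xor (nth [0, one, W4, Nat.xor one W4] a) (mul4 M acc)

/-- The test for transposes. -/
noncomputable def okT (T X : ℕ) : Bool := fa 27 fun i => fa 27 fun j =>
  bit T (27 * j + i) == bit X (27 * i + j) && bit T (729 + (27 * j + i)) == bit X (729 + (27 * i + j))

/-- The test for radicals. -/
noncomputable def okR (T X s P N : ℕ) : Bool := frc (pow4 T s) fun T =>
  (fa 27 fun k => Nat.beq (mul4 (rp T X (Ap (p6 TR) k) 19) P) 0) &&
    Nat.beq (mul4 N (rp T X (Ap (p6 TR) 0) 19)) (Nat.xor one P)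

theorem okT_spec {T X : ℕ} (h : okT T X = true) (w : K) : tm w T = (tm w X)ᵀ := by
  ext i j
  have := fa_spec (fa_spec h i i.2) j j.2
  simp only [Bool.and_eq_true, beq_iff_eq, bit_eq] at this
  simp only [tm, transpose_apply, Matrix.add_apply, Matrix.smul_apply, toMat_apply,
    Nat.testBit_shiftRight, this]

variable [CharP K 2] {w : K} (hw : w ^ 2 = w + 1)

theorem tm_Ap (l : List T3) (k : Fin 27) : tm w (Ap l k) = Am K l (Pi.single k 1) := by
  induction l with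
  | nil => exact tm_zero w
  | cons t l ih =>
    rw [Am_cons, ← ih]
    change tm w (cond (Nat.beq t.2.2 k) (Nat.xor (Nat.pow 2 (27 * t.2.1 + t.1)) (Ap l k)) (Ap l k)) = _
    by_cases e : t.2.2 = k
    · have h : Nat.pow 2 (27 * t.2.1 + t.1) < 2 ^ 729 :=
        Nat.pow_lt_pow_right (by norm_num) (by omega)
      rw [e, Nat.beq_refl, cond_true, tm_xor, tm_small w h, Pi.single_eq_same]
      exact congrArg (· + _) (toMat_two_pow _ _ _)
    · rw [beq_false fun h => e (Fin.ext h), cond_false, Pi.single_eq_of_ne e, single_zero, zero_add]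

include hw

theorem tm_rp {T X A s : ℕ} (h : tm w T = (tm w X ^ s)ᵀ) (k : ℕ) :
    tm w (rp T X A k) = Rm (tm w X) (tm w A) s k := by
  induction k with
  | zero => exact tm_zero w
  | succ k ih =>
    change tm w (Nat.xor A (mul4 T (mul4 (rp T X A k) X))) = _
    rw [tm_xor, tm_mul4 hw, tm_mul4 hw, ih, h, Rm, Rm, List.range_succ_eq_map, List.map_cons,
      List.sum_cons, ← List.sum_map_mul_right, ← List.sum_map_mul_left, List.map_map]
    simp only [Function.comp_def, Nat.mul_succ, pow_succ, pow_add, transpose_mul, mul_assoc, mul_zero,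
      pow_zero, transpose_one, one_mul, mul_one]

theorem hor_semi {a : Matrix (Fin 27) (Fin 27) K} {M M' : ℕ} (h : a * tm w M = tm w M' * a)
    (c : List ℕ) : a * tm w (hor c M) = tm w (hor c M') * a := by
  induction c with
  | nil => simp [hor, tm_zero]
  | cons b c ih =>
    change a * tm w (Nat.xor _ (mul4 M (hor c M))) = tm w (Nat.xor _ (mul4 M' (hor c M'))) * a
    rw [tm_xor, tm_xor, tm_mul4 hw, tm_mul4 hw, mul_add, add_mul, ← mul_assoc, h, mul_assoc, ih,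
      mul_assoc, nth_ind (P := fun Y => a * tm w Y = tm w Y * a) (by simp [tm_zero]) (by
        simp only [List.forall_mem_cons, tm_xor, tm_zero, tm_one, tm_W4, mul_add, add_mul]
        simp)]

theorem okR_spec {T X s P N : ℕ} (hT : okT T X = true) (h : okR T X s P N = true)
    {x a : GL (Fin 27) K} (e : x.1 = tm w X) (hx : x ^ 19 = 1) (ha : a ∈ NS K) {j : ℕ} (h1 : j < 19)
    (h2 : j ≠ 0) (h3 : a⁻¹ * x * a = x ^ j) : tm w P * (a.1 * tm w P) = a.1 * tm w P := by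
  simp only [okR, CE.frc_eq, Bool.and_eq_true, Nat.beq_eq] at h
  have h4 : ∀ k : Fin 27, tm w (rp (pow4 T s) X (Ap (p6 TR) k) 19) =
      Rm x.1 (Am K (p6 TR) (Pi.single k 1)) s 19 := fun k => by
    rw [tm_rp hw (s := s) (by rw [tm_pow4 hw, okT_spec hT, transpose_pow]), tm_Ap, e]
  have h5 := rad_inv hx ha h1 h2 h3 (s := s) (e := tm w P) (fun k => by
    rw [← h4, ← tm_mul4 hw, Nat.eq_of_beq_eq_true (fa_spec h.1 k k.2), tm_zero]) (Pi.single 0 1)
  have h6 := congrArg (tm w · * (a.1 * tm w P)) h.2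
  simp only [tm_mul4 hw, tm_xor, tm_one] at h6
  rw [show tm w (rp (pow4 T s) X (Ap (p6 TR) 0) 19) = _ from h4 0, mul_assoc, h5, mul_zero, add_mul,
    one_mul] at h6
  rw [eq_neg_of_add_eq_zero_right h6.symm, neg_eq_of_add_eq_zero_right (add_self' _)]

/-- The test for the action on a summand. -/
noncomputable def okH (X H P : ℕ) (c : List ℕ) (j k : ℕ) : Bool :=
  Nat.beq (mul4 (hor c (pow4 X j)) P) (mul4 (pow4 W4 k) (mul4 H P))

theorem okH_spec {X H P : ℕ} {c : List ℕ} {j k : ℕ} (h1 : okH X H P c 1 0 = true)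
    (h2 : okH X H P c j k = true) {a : Matrix (Fin 27) (Fin 27) K}
    (h3 : a * tm w X = tm w X ^ j * a) (h4 : tm w P * (a * tm w P) = a * tm w P) :
    a * tm w H * tm w P = w ^ k • (tm w H * a) * tm w P := by
  replace h1 := congrArg (tm w) (Nat.eq_of_beq_eq_true h1)
  replace h2 := congrArg (tm w) (Nat.eq_of_beq_eq_true h2)
  simp only [tm_mul4 hw, tm_pow4 hw, tm_W4, pow_zero, one_mul, smul_pow, one_pow,
    smul_mul_assoc] at h1 h2
  rw [mul_assoc, ← h1, ← mul_assoc, hor_semi hw (M' := pow4 X j) (by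
    rw [tm_pow4 hw, tm_pow4 hw, pow_one, h3]), mul_assoc, ← h4, ← mul_assoc, h2, smul_mul_assoc,
    mul_assoc, h4, smul_mul_assoc, mul_assoc]

theorem loc19 [Fintype K] (hK : Fintype.card K = 4) {X T H Y Z P1 P2 P3 N1 N2 N3 s1 s2 s3 : ℕ}
    {c1 c2 c3 : List ℕ} (a1 : pow4 X 19 = one) (a2 : okT T X = true)
    (r1 : okR T X s1 P1 N1 = true) (r2 : okR T X s2 P2 N2 = true) (r3 : okR T X s3 P3 N3 = true)
    (a3 : Nat.xor P1 (Nat.xor P2 P3) = one)
    (a4 : okH X H P1 c1 1 0 = true ∧ okH X H P2 c2 1 0 = true ∧ okH X H P3 c3 1 0 = true)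
    (a5 : ∀ j < 19, tr4 (pow4 X j) = tr4 X → ∃ k < 3,
      okH X H P1 c1 j k = true ∧ okH X H P2 c2 j k = true ∧ okH X H P3 c3 j k = true)
    (a6 : mul4 Y H = mul4 H Y) (a7 : ncm X Y = true)
    (a8 : ∀ k < 3, mul4 Z H ≠ mul4 (pow4 W4 k) (mul4 H Z))
    {x y z : GL (Fin 27) K} (e1 : x.1 = tm w X) (e3 : y.1 = tm w Y) (e4 : z.1 = tm w Z)
    (hy : y ∈ Lf K) (hz : z ∈ Lf K) {g1 : twistedE6 K 2} (h1 : (x, g1) ∈ Gm K) :
    (g1 ^ 19 = 1 ∧ g1 ≠ 1) ∧
      ¬ IsCoatom (normalizer ((closure {g1, 1} : Subgroup _) : Set (twistedE6 K 2))) := by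
  have E := ext_Gm hK
  have p1 : x ^ 19 = 1 := Units.ext (by
    rw [Units.val_pow_eq_pow_val, e1, ← tm_pow4 hw, a1, tm_one]; rfl)
  have n := ncm_spec hw a7 e1 e3
  have w0 : w ≠ 0 := by rintro rfl; simp at hw
  refine ⟨⟨E.pow_img h1 p1, fun e => n (mem_center_iff.1 ((E.ker _ _ h1).2 e) _).symm⟩, ?_⟩
  obtain ⟨y', b5⟩ := ex_img hy
  obtain ⟨z', b6⟩ := ex_img hz
  have h2 : ((1 : GL (Fin 27) K), (1 : twistedE6 K 2)) ∈ Gm K := one_mem _
  refine E.not_coatom (S := Sc (tm w H)) (fun a ha => ?_) (fun g hg => ?_) b5 b6 ?_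
    (E.not_mem_norm (p := 19) (by norm_num) (by norm_num) h1 h2 (Commute.one_right x) p1 (one_pow _)
      b5 n) ?_
  · obtain ⟨c, hc⟩ := mem_Zc.1 ha
    exact ⟨1, one_ne_zero, by simp [hc]⟩
  · obtain ⟨a, ha, b1⟩ := ex_lift g
    have key : ∀ {a g}, (a, g) ∈ Gm K → g ∈ normalizer ((closure {g1, 1} : Subgroup _) :
        Set (twistedE6 K 2)) → ∃ j < 19, j ≠ 0 ∧ a⁻¹ * x * a = x ^ j := fun {a g} b1 hg => by
      obtain ⟨i, j, e⟩ := E.conj_eq (p := 19) (by norm_num) (by norm_num) h1 h2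
        (Commute.one_right x) p1 (one_pow _) b1 hg h1 (subset_closure (by simp)) p1
      rw [one_pow, mul_one, pow_eq_pow_mod _ p1] at e
      refine ⟨_, Nat.mod_lt _ (by norm_num), fun e' => n ?_, e⟩
      rw [e', pow_zero, mul_assoc, inv_mul_eq_one, right_eq_mul] at e
      rw [e]
      exact Commute.one_left _
    obtain ⟨i, b2, b3, b4⟩ := key b1 hg
    obtain ⟨j, b7, -, b8⟩ := key (a := a⁻¹) (g := g⁻¹) (inv_mem b1) (inv_mem hg)
    rw [inv_inv] at b8
    have b9 : a.1 * tm w X = tm w X ^ j * a.1 := by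
      rw [← e1, ← Units.val_pow_eq_pow_val, ← b8, ← Units.val_mul, ← Units.val_mul,
        inv_mul_cancel_right]
    obtain ⟨k, -, d1, d2, d3⟩ := a5 j b7 (tr4_eq hw (by
      rw [tm_pow4 hw, ← e1, ← Units.val_pow_eq_pow_val, ← b8, Units.val_mul, Units.val_mul,
        trace_units_conj]))
    refine ⟨a, ⟨w ^ k, pow_ne_zero _ w0, ?_⟩, b1⟩
    have d4 := congrArg (tm w) a3
    rw [tm_xor, tm_xor, tm_one] at d4
    rw [← mul_one (_ * _), ← mul_one (_ • _), ← d4, mul_add, mul_add, mul_add, mul_add,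
      okH_spec hw a4.1 d1 b9 (okR_spec hw a2 r1 e1 p1 ha b2 b3 b4),
      okH_spec hw a4.2.1 d2 b9 (okR_spec hw a2 r2 e1 p1 ha b2 b3 b4),
      okH_spec hw a4.2.2 d3 b9 (okR_spec hw a2 r3 e1 p1 ha b2 b3 b4)]
  · exact ⟨1, one_ne_zero, by rw [e3, one_smul, ← tm_mul4 hw, a6, tm_mul4 hw]⟩
  · rintro ⟨c, d1, d2⟩
    have d3 : c ^ 3 = 1 := by simpa [hK] using FiniteField.pow_card_sub_one_eq_one c d1
    have d4 : (c - w ^ 0) * (c - w ^ 1) * (c - w ^ 2) = 0 := by
      have := CharTwo.two_eq_zero (R := K)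
      grind
    obtain ⟨k, d5, rfl⟩ : ∃ k < 3, c = w ^ k := by
      simp only [mul_eq_zero, sub_eq_zero] at d4
      rcases d4 with (e | e) | e <;> exact ⟨_, by norm_num, e⟩
    refine a8 k d5 (tm_inj hw (mul4_lt _ _) (mul4_lt _ _) ?_)
    rw [tm_mul4 hw, tm_mul4 hw, tm_mul4 hw, tm_pow4 hw, tm_W4, ← e4, d2, smul_pow, one_pow,
      smul_mul_assoc, one_mul]

end Cfsg.Agent.H3.Loc
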