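import Cfsg.Agent.H5.Ch.Lvl

/-!
Orders of twisted groups in characteristic two, by counting the cells of the Bruhat decomposition.
-/

set_option autoImplicit false
set_option linter.unusedSectionVars false
set_option linter.unusedSimpArgs false
set_option linter.style.haveILetI false

namespace Cfsg.Agent.H3.TwOrd

open Matrix Cfsg.Agent.H5.Ch SLD
open scoped MatrixGroups

theorem card_bruhat {Γ : Type*} [Group Γ] (G U M : Subgroup Γ) (hU : U ≤ G) (hM : M ≤ G)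
    (h1 : ∀ g ∈ G, ∃ u ∈ U, ∃ m ∈ M, ∃ u' ∈ U, g = u * m * u')
    (h2 : ∀ m ∈ M, ∀ m' ∈ M, ∀ u ∈ U, ∀ u' ∈ U, u * m = m' * u' → m = m') [Fintype M] [Finite Γ] :
    Nat.card G = Nat.card U * ∑ m : M, (MulAction.stabilizer U ((m : Γ) : Γ ⧸ U)).index := by
  let t : Set (Γ ⧸ U) := {y | ∃ m : M, y ∈ MulAction.orbit U ((m : Γ) : Γ ⧸ U)}
  have h3 : QuotientGroup.mk ⁻¹' t = (G : Set Γ) := by
    ext g
    constructor
    · rintro ⟨m, u, e⟩
      have e' : ((u.1 * m.1 : Γ) : Γ ⧸ U) = g := e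
      rw [QuotientGroup.eq] at e'
      simpa only [mul_inv_cancel_left, SetLike.mem_coe] using G.mul_mem (G.mul_mem (hU u.2) (hM m.2)) (hU e')
    · intro hg
      obtain ⟨u, hu, m, hm, u', hu', rfl⟩ := h1 g hg
      exact ⟨⟨m, hm⟩, ⟨u, hu⟩, (QuotientGroup.mk_mul_of_mem (u * m) hu').symm⟩
  have h4 := QuotientGroup.card_preimage_mk U t
  rw [h3] at h4
  refine h4.trans (congrArg _ ?_)
  simp only [MulAction.index_stabilizer, ← Nat.card_coe_set_eq]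
  rw [← Nat.card_sigma]
  refine (Nat.card_eq_of_bijective (fun y : Σ m : M, MulAction.orbit U ((m : Γ) : Γ ⧸ U) =>
    (⟨y.2.1, y.1, y.2.2⟩ : t)) ⟨?_, ?_⟩).symm
  · rintro ⟨m, y, u, e⟩ ⟨m', y', u', e'⟩ h
    obtain rfl : y = y' := congrArg Subtype.val h
    have h5 : ((u'.1 * m'.1 : Γ) : Γ ⧸ U) = (u.1 * m.1 : Γ) := e'.trans e.symm
    rw [QuotientGroup.eq] at h5
    obtain rfl : m = m' := Subtype.ext (h2 _ m.2 _ m'.2 _ (u'⁻¹ * u).2 _ h5 (by simp [mul_assoc]))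
    rfl
  · rintro ⟨y, m, h⟩
    exact ⟨⟨m, y, h⟩, rfl⟩

theorem sum_fib {M V : Type*} [Fintype M] [DecidableEq V] (ν : M → V) (O : Finset V) (k : ℕ)
    (h1 : ∀ m, ν m ∈ O) (h2 : ∀ v ∈ O, Nat.card {m // ν m = v} = k) (f : V → ℕ) :
    ∑ m, f (ν m) = k * ∑ v ∈ O, f v := by
  rw [← Finset.sum_fiberwise_of_maps_to (s := Finset.univ) (t := O) (g := ν) fun m _ => h1 m,
    Finset.mul_sum]
  refine Finset.sum_congr rfl fun v hv => ?_
  rw [Finset.sum_congr rfl (g := fun _ => f v) fun m hm => by rw [(Finset.mem_filter.1 hm).2],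
    Finset.sum_const, ← h2 v hv, Nat.card_eq_fintype_card, Fintype.card_subtype, smul_eq_mul]

variable {l n : ℕ} {R : SLD l n} {F : Type*} [Field F] [CharP F 2]

theorem finite_Φ (R : SLD l n) : Finite R.Φ :=
  Finite.of_surjective (fun r : Fin n => (⟨R.rt r, R.norm r⟩ : R.Φ)) fun r =>
    ⟨R.ix r.2, Subtype.ext (R.rt_ix r.2)⟩

attribute [local instance] finite_Φ

theorem xU {k : ℤ} {r : R.Φ} (h : k ≤ ht r.1) (t : F) : x r t ∈ R.Uk F k := x_mem h t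

/-- Closed sets of positive roots. -/
structure Cl (S : R.Φ → Prop) : Prop where
  pos : ∀ r, S r → 0 < ht r.1
  add : ∀ a r, S a → S r → ∀ e : R.B a.1 r.1 = -1, S (ad a r e)

theorem Cl.erase {S : R.Φ → Prop} (hS : Cl S) {a : R.Φ} (hm : ∀ r, S r → ht a.1 ≤ ht r.1) :
    Cl fun r => S r ∧ r ≠ a :=
  ⟨fun r hr => hS.pos r hr.1, fun b r hb hr e => ⟨hS.add b r hb.1 hr.1 e, fun e' => by
    have h1 := congrArg (fun r : R.Φ => ht r.1) e'
    have h2 := hm r hr.1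
    have h3 := hS.pos b hb.1
    simp only [ad_val, map_add] at h1
    omega⟩⟩

theorem Cl.peel {S : R.Φ → Prop} (hS : Cl S) {a : R.Φ} (ha : S a) (hm : ∀ r, S r → ht a.1 ≤ ht r.1)
    {u : GL (Fin l ⊕ Fin n) F} (hu : u ∈ RR F S) :
    u * x a (co a u) ∈ RR F fun r => S r ∧ r ≠ a := by
  have hk := hS.pos a ha
  obtain ⟨t, v, hv, e⟩ := SLD.split (a := a) (fun r hr => ⟨fun e' => by
    have h1 := congrArg ht ((Lat.eq_neg_iff_B a.2 r.2).2 e')
    have h2 := hS.pos r hr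
    simp only [map_neg] at h1
    omega, fun e' => hS.add _ _ ha hr e'⟩) hu
  have h := crd_co (R := R) (F := F) hk
  have h5 : co a u = t := by
    rw [e, h.add a rfl _ (RR_mono (fun r hr => hm r hr.1) hv) _ (xU le_rfl t),
      h.eq_zero rfl (fun r hr => ⟨hm r hr.1, hr.2⟩) hv, h.gen _ rfl _ _ le_rfl, if_pos rfl,
      zero_add]
  rw [h5, e, mul_assoc, x_mul_self, mul_one]
  exact hv

theorem ind_min {p : (R.Φ → Prop) → Prop} (h0 : ∀ S, (∀ r, ¬ S r) → p S)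
    (h1 : ∀ S a, S a → (∀ r, S r → ht a.1 ≤ ht r.1) →
      (∀ S' : R.Φ → Prop, (∀ r, S' r → S r ∧ r ≠ a) → p S') → p S) (S : R.Φ → Prop) : p S := by
  induction hk : {r | S r}.ncard using Nat.strong_induction_on generalizing S with
  | _ k ih =>
  by_cases h : ∃ r, S r
  · obtain ⟨a, ha, hm⟩ := Set.exists_min_image {r | S r} (fun r => ht r.1) (Set.toFinite _) h
    refine h1 S a ha hm fun S' hS' => ih _ ?_ S' rfl
    rw [← hk]
    exact Set.ncard_lt_ncard ⟨fun r hr => (hS' r hr).1, fun h => (hS' a (h ha)).2 rfl⟩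
      (Set.toFinite _)
  · exact h0 S fun r hr => h ⟨r, hr⟩

theorem RR_empty {S : R.Φ → Prop} (h : ∀ r, ¬ S r) : RR F S = ⊥ :=
  le_bot_iff.1 (RR_le fun r _ hr => absurd hr (h r))

theorem co_ne {m u : GL (Fin l ⊕ Fin n) F} {w χ} (h : R.IsN m w χ) (hu : m⁻¹ * u * m ∈ R.U F)
    {a : R.Φ} (e : co a u ≠ 0) : 0 < ht (w⁻¹ a.1) := by
  have h1 := h.sup_conj (P := fun v => 0 < ht v) ((U_sup hu).mono fun _ _ h => h.2)
  rw [← conj_sub_one, show m * (m⁻¹ * u * m) * m⁻¹ = u by group] at h1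
  simpa using h1 (Sum.inl (exists_odd (F := F) a).choose) (Sum.inr (R.ix (ng a).2))
    (by simpa [co] using e)

theorem capU {m : GL (Fin l ⊕ Fin n) F} {w χ} (h : R.IsN m w χ) (S : R.Φ → Prop) : Cl S →
    ∀ u ∈ RR F S, m⁻¹ * u * m ∈ R.U F → u ∈ RR F fun r : R.Φ => 0 < ht r.1 ∧ 0 < ht (w⁻¹ r.1) := by
  induction S using ind_min with
  | h0 S h0 => exact fun _ u hu _ => RR_mono (fun r hr => absurd hr (h0 r)) hu
  | h1 S a ha hm ih =>
    intro hS u hu h1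
    have h2 := ih _ (fun _ h => h) (hS.erase hm) _ (hS.peel ha hm hu)
    by_cases e : co a u = 0
    · rw [e, x_zero, mul_one] at h2
      exact h2 h1
    · have h3 := co_ne h h1 e
      have h4 : m⁻¹ * x a (co a u) * m ∈ R.U F := by
        have := h.inv.conj a (co a u)
        rw [inv_inv] at this
        rw [this]
        exact x_mem h3 _
      have h5 := h2 (by convert (R.U F).mul_mem h1 h4 using 1; group)
      exact (Subgroup.mul_mem_cancel_right _ (x_mem ⟨hS.pos a ha, h3⟩ _)).1 h5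

variable (T : R.Tw) (φ : F →+* F)

theorem co_σ {k : ℤ} (hk : 0 < k) {u : GL (Fin l ⊕ Fin n) F} (hu : u ∈ R.Uk F k) {r : R.Φ}
    (hr : ht r.1 = k) : co (T.gr r) (T.σ φ u) = φ (co r u) := by
  have h0 : ht (T.gr r).1 = k := by simpa [T.ht_gam] using hr
  refine (RR_ind (p := fun u => u ∈ R.Uk F k ∧ T.σ φ u ∈ R.Uk F k ∧
    co (T.gr r) (T.σ φ u) = φ (co r u)) (by
      simp [(crd_co hk).one hr, (crd_co hk).one h0]) (fun s t g hs ih => ?_) hu).2.2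
  have h1 : k ≤ ht (T.gr s).1 := by simpa [T.ht_gam] using hs
  rw [map_mul, T.σ_x]
  refine ⟨Subgroup.mul_mem _ (x_mem hs t) ih.1, Subgroup.mul_mem _ (x_mem h1 _) ih.2.1, ?_⟩
  rw [(crd_co hk).add _ h0 _ (x_mem h1 _) _ ih.2.1, (crd_co hk).add _ hr _ (x_mem hs t) _ ih.1,
    ih.2.2, (crd_co hk).gen _ h0 _ _ h1, (crd_co hk).gen _ hr _ _ hs, map_add]
  by_cases e : s = r <;> simp [T.gr_inj.eq_iff, e]

/-- Fixed points in subgroups generated by root subgroups. -/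
noncomputable def X (S : R.Φ → Prop) : Subgroup (GL (Fin l ⊕ Fin n) F) :=
  RR F S ⊓ (T.σ φ).eqLocus (MonoidHom.id _)

theorem mem_X {S : R.Φ → Prop} {u : GL (Fin l ⊕ Fin n) F} :
    u ∈ X T φ S ↔ u ∈ RR F S ∧ T.σ φ u = u := Iff.rfl

open Classical in
/-- Twisted root elements. -/
noncomputable def Y (a : R.Φ) (t : F) : GL (Fin l ⊕ Fin n) F :=
  if T.gr a = a then x a t else x a t * x (T.gr a) (φ t)

variable {q : ℕ} (h2 : ∀ t, φ (φ t) = t) (hg : ∀ s, T.gr (T.gr s) = s)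
  (hB : ∀ s : R.Φ, 0 ≤ R.B s.1 (T.gam s.1))

theorem Y_mem {S : R.Φ → Prop} {a : R.Φ} (h : S a) (h' : S (T.gr a)) (t : F) :
    Y T φ a t ∈ RR F S := by
  unfold Y
  split_ifs
  exacts [x_mem h t, mul_mem (x_mem h t) (x_mem h' _)]

theorem co_Y {a : R.Φ} (h : 0 < ht a.1) (t : F) : co a (Y T φ a t) = t := by
  have h1 : ht a.1 ≤ ht (T.gr a).1 := by simp [T.ht_gam]
  unfold Y
  split_ifs with e
  · rw [(crd_co h).gen _ rfl _ _ le_rfl, if_pos rfl]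
  · rw [(crd_co h).add _ rfl _ (xU le_rfl _) _ (xU h1 _), (crd_co h).gen _ rfl _ _ le_rfl,
      (crd_co h).gen _ rfl _ _ h1, if_pos rfl, if_neg e, add_zero]

include h2 hg hB

theorem σ_Y {a : R.Φ} {t : F} (h : T.gr a = a → φ t = t) : T.σ φ (Y T φ a t) = Y T φ a t := by
  unfold Y
  split_ifs with e
  · rw [T.σ_x, e, h e]
  · rw [map_mul, T.σ_x, T.σ_x, hg, h2]
    exact (x_comm (a := a) (b := T.gr a) (hB a) _ _).symm

theorem Y_mem_G0 {a : R.Φ} {t : F} (h : T.gr a = a → φ t = t) : Y T φ a t ∈ T.G0 φ :=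
  Subgroup.subset_closure ⟨σ_Y T φ h2 hg hB h, a, Y_mem T φ (fun _ _ => rfl)
    (fun f hf => by rw [Tw.gr_val, T.E0_gam hf]) t⟩

theorem card_X (c1 : Nat.card {t : F // φ t = t} = q) (c2 : Nat.card F = q ^ 2)
    (S : R.Φ → Prop) : Cl S → (∀ r, S r → S (T.gr r)) →
    X T φ S ≤ T.G0 φ ∧ Nat.card (X T φ S) = q ^ {r | S r}.ncard := by
  induction S using ind_min with
  | h0 S h0 =>
    intro _ _
    rw [X, RR_empty h0, bot_inf_eq, show {r | S r} = ∅ from Set.eq_empty_of_forall_notMem h0]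
    simp
  | h1 S a ha hm ih =>
    intro hS hs
    have hk := hS.pos a ha
    have hc := crd_co (R := R) (F := F) hk
    have hm' : ∀ r, S r ∧ r ≠ a → ht (T.gr a).1 ≤ ht r.1 := fun r hr => by
      simpa [T.ht_gam] using hm r hr.1
    obtain ⟨i1, i2⟩ := ih (fun r => (S r ∧ r ≠ a) ∧ r ≠ T.gr a) (fun _ h => h.1)
      ((hS.erase hm).erase hm') fun r hr => ⟨⟨hs r hr.1.1, fun e => hr.2 (by rw [← e, hg])⟩,
        fun e => hr.1.2 (T.gr_inj e)⟩
    have k0 : ∀ u ∈ X T φ S, u ∈ R.Uk F (ht a.1) := fun u hu => RR_mono hm hu.1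
    have k1 : ∀ u ∈ X T φ S, co (T.gr a) u = φ (co a u) := fun u hu => by
      rw [← co_σ T φ hk (k0 u hu) rfl, ((mem_X T φ).1 hu).2]
    have k2 : ∀ u ∈ X T φ S, co a u = 0 → u ∈ X T φ fun r => (S r ∧ r ≠ a) ∧ r ≠ T.gr a :=
      fun u hu e => ⟨by
        have h3 := hS.peel ha hm hu.1
        rw [e, x_zero, mul_one] at h3
        by_cases e' : T.gr a = a
        · exact RR_mono (fun r hr => ⟨hr, e'.symm ▸ hr.2⟩) h3
        · have h4 := (hS.erase hm).peel ⟨hs a ha, e'⟩ hm' h3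
          rwa [k1 u hu, e, map_zero, x_zero, mul_one] at h4, hu.2⟩
    have k3 : ∀ t, (T.gr a = a → φ t = t) → Y T φ a t ∈ X T φ S := fun t h =>
      ⟨Y_mem T φ ha (hs a ha) t, σ_Y T φ h2 hg hB h⟩
    have k4 : ∀ u ∈ X T φ S, T.gr a = a → φ (co a u) = co a u := fun u hu e => by
      rw [← k1 u hu, e]
    refine ⟨fun u hu => ?_, ?_⟩
    · have h3 := k3 _ (k4 u hu)
      refine (Subgroup.mul_mem_cancel_right _ (Y_mem_G0 T φ h2 hg hB (k4 u hu))).1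
        (i1 (k2 _ (mul_mem hu h3) ?_))
      rw [hc.add a rfl _ (k0 u hu) _ (k0 _ h3), co_Y T φ hk, CharTwo.add_self_eq_zero]
    let ψ : X T φ S →* Multiplicative F := MonoidHom.mk' (fun u => Multiplicative.ofAdd (co a u.1))
      fun u v => by rw [← ofAdd_add, ← hc.add a rfl _ (k0 _ u.2) _ (k0 _ v.2)]; rfl
    have k5 : ψ.ker = (X T φ fun r => (S r ∧ r ≠ a) ∧ r ≠ T.gr a).subgroupOf (X T φ S) := by
      ext u
      exact ⟨fun h => k2 _ u.2 h, fun h => hc.eq_zero rfl (fun r hr => ⟨hm r hr.1.1, hr.1.2⟩) h.1⟩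
    have k6 : Nat.card ψ.range = Nat.card {t : F // T.gr a = a → φ t = t} :=
      Nat.card_congr (Equiv.subtypeEquiv Multiplicative.toAdd fun t => ⟨by
        rintro ⟨u, rfl⟩
        exact k4 _ u.2, fun h => ⟨⟨_, k3 _ h⟩, congrArg Multiplicative.ofAdd (co_Y T φ hk _)⟩⟩)
    have k9 : (X T φ fun r => (S r ∧ r ≠ a) ∧ r ≠ T.gr a) ≤ X T φ S :=
      inf_le_inf_right _ (RR_mono fun r hr => hr.1.1)
    rw [← ψ.ker.card_mul_index, Subgroup.index_ker, k6, k5, Nat.card_congr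
      (Subgroup.subgroupOfEquivOfLe k9).toEquiv, i2]
    have k7 := Set.ncard_sdiff_singleton_add_one (s := {r | S r}) ha
    by_cases e : T.gr a = a
    · rw [← k7, pow_succ]
      congr 2
      · congr 1
        ext r
        simp [e]
      · simpa [e] using c1
    · have k8 := Set.ncard_sdiff_singleton_add_one (s := {r | S r} \ {a}) (a := T.gr a) ⟨hs a ha, e⟩
      rw [← k7, ← k8, add_assoc, pow_add]
      congr 2
      simpa [e] using c2

theorem index_stab (c1 : Nat.card {t : F // φ t = t} = q) (c2 : Nat.card F = q ^ 2) [Finite F]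
    {m : GL (Fin l ⊕ Fin n) F} (hm : m ∈ T.G0 φ) {w χ} (h : R.IsN m w χ) :
    (MulAction.stabilizer (R.U F ⊓ T.G0 φ : Subgroup _)
      (m : GL (Fin l ⊕ Fin n) F ⧸ R.U F ⊓ T.G0 φ)).index =
      q ^ {r : R.Φ | 0 < ht r.1 ∧ ht (w⁻¹ r.1) < 0}.ncard := by
  have c0 : Cl fun r : R.Φ => 0 < ht r.1 := ⟨fun _ h => h, fun a r h1 h2 e => by
    simp only [ad_val, map_add]; omega⟩
  obtain ⟨a1, a2⟩ := card_X T φ h2 hg hB c1 c2 _ c0 fun r hr => by simpa [T.ht_gam] using hr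
  have a3 : T.gam * w * T.gam⁻¹ = w := by
    have := ((T.isN_P (F := F)).mul (h.map φ)).mul T.isN_P.inv
    exact this.unique (T.σ_eq φ hm ▸ h)
  obtain ⟨b1, b2⟩ := card_X T φ h2 hg hB c1 c2 (fun r : R.Φ => 0 < ht r.1 ∧ 0 < ht (w⁻¹ r.1))
    ⟨fun _ h => h.1, fun a r h1 h2 e => by simp only [ad_val, map_add]; omega⟩ fun r hr => by
      refine ⟨by simpa [T.ht_gam] using hr.1, ?_⟩
      rw [← a3]
      simpa [T.ht_gam] using hr.2
  have a4 : R.U F ⊓ T.G0 φ = X T φ fun r : R.Φ => 0 < ht r.1 :=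
    le_antisymm (fun u hu => ⟨hu.1, T.σ_eq φ hu.2⟩) (le_inf inf_le_left a1)
  have a5 : MulAction.stabilizer (R.U F ⊓ T.G0 φ : Subgroup _)
      (m : GL (Fin l ⊕ Fin n) F ⧸ R.U F ⊓ T.G0 φ) =
      (X T φ fun r : R.Φ => 0 < ht r.1 ∧ 0 < ht (w⁻¹ r.1)).subgroupOf _ := by
    ext u
    rw [MulAction.mem_stabilizer_iff, Subgroup.mem_subgroupOf]
    change ((u.1 * m : GL (Fin l ⊕ Fin n) F) : _ ⧸ R.U F ⊓ T.G0 φ) = _ ↔ _
    rw [eq_comm, QuotientGroup.eq, ← mul_assoc]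
    refine ⟨fun e => ⟨capU h _ c0 _ u.2.1 e.1, T.σ_eq φ u.2.2⟩, fun e => ⟨?_,
      (T.G0 φ).mul_mem ((T.G0 φ).mul_mem ((T.G0 φ).inv_mem hm) u.2.2) hm⟩⟩
    have := conj_RR (H := R.U F) (fun r t hr => by
      rw [h.inv.conj]
      exact x_mem hr.2 _) e.1
    rwa [inv_inv] at this
  have a6 := (MulAction.stabilizer (R.U F ⊓ T.G0 φ : Subgroup _)
      (m : GL (Fin l ⊕ Fin n) F ⧸ R.U F ⊓ T.G0 φ)).card_mul_index
  have a7 : (X T φ fun r : R.Φ => 0 < ht r.1 ∧ 0 < ht (w⁻¹ r.1)) ≤ R.U F ⊓ T.G0 φ :=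
    le_inf (inf_le_left.trans (RR_mono fun _ h => h.1)) b1
  conv_lhs at a6 => rw [a5, Nat.card_congr (Subgroup.subgroupOfEquivOfLe a7).toEquiv, b2, ← a5]
  conv_rhs at a6 => rw [a4, a2]
  have a8 : {r : R.Φ | 0 < ht r.1} = {r : R.Φ | 0 < ht r.1 ∧ 0 < ht (w⁻¹ r.1)} ∪
      {r : R.Φ | 0 < ht r.1 ∧ ht (w⁻¹ r.1) < 0} := by
    ext r
    have := Lat.ht_ne_zero (h.inv.act r).2
    simp only [IsN.act_val, Set.mem_union, Set.mem_ofPred_eq] at this ⊢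
    omega
  rw [a8, Set.ncard_union_eq (Set.disjoint_left.2 fun r h1 h2 => h1.2.not_gt h2.2), pow_add] at a6
  refine Nat.eq_of_mul_eq_mul_left (pow_pos (Nat.pos_of_ne_zero fun e => ?_) _) a6
  rw [e] at c2
  exact Nat.card_pos.ne' c2

theorem card_G0 (c1 : Nat.card {t : F // φ t = t} = q) (c2 : Nat.card F = q ^ 2) [Finite F]
    {ρ : Fin l → ℤ} (hρ : ∀ i, R.B (al i) ρ = 1) (O : Finset (Fin l → ℤ)) (o1 : ρ ∈ O)
    (o2 : ∀ v ∈ O, ∀ i, R.wd (T.L i) v ∈ O) (o3 : ∀ v ∈ O, ∃ K, v = T.wl.W K ρ) :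
    Nat.card (T.G0 φ) = Nat.card (R.U F ⊓ T.G0 φ : Subgroup _) *
      (Nat.card ((R.H F).subgroupOf (T.M φ)) *
        ∑ v ∈ O, q ^ {r : R.Φ | 0 < ht r.1 ∧ R.B r.1 v < 0}.ncard) := by
  classical
  haveI : Fintype (T.M φ) := Fintype.ofFinite _
  have hM : T.M φ ≤ T.G0 φ := (T.rl φ).M_le
  choose K χ hK using fun m : T.M φ => (T.rl φ).isN m.1 m.2
  have hK' : ∀ m : T.M φ, R.IsN m.1 (T.wl.W (K m)) (χ m) := hK
  have h3 : ∀ v, R.B v ρ = ht v := fun v => by simp [Lat.B_eq_sum _ v, hρ, ht_apply]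
  rw [card_bruhat (T.G0 φ) (R.U F ⊓ T.G0 φ) (T.M φ) inf_le_right hM
    (fun g hg => (T.rl φ).bruhat hg) fun m hm m' hm' u hu u' hu' e =>
      (hK' ⟨m, hm⟩).eq_of_bruhat (hK' ⟨m', hm'⟩) hu.1 hu'.1 e,
    ← sum_fib (fun m => T.wl.W (K m) ρ) O _ (fun m => ?_) fun v hv => ?_]
  · refine congrArg _ (Finset.sum_congr rfl fun m _ => ?_)
    rw [index_stab T φ h2 hg hB c1 c2 (hM m.2) (hK' m)]
    congr 2
    ext r
    rw [Set.mem_ofPred_eq, Set.mem_ofPred_eq, ← h3 ((T.wl.W (K m))⁻¹ r.1),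
      ← (hK' m).iso ((T.wl.W (K m))⁻¹ r.1)]
    exact and_congr_right fun _ => iff_of_eq (congrArg (fun v => R.B v _ < 0)
      ((T.wl.W (K m)).apply_symm_apply r.1))
  · induction K m with
    | nil => exact o1
    | cons i K ih => rw [Wl.W_cons]; exact o2 _ ih i
  · obtain ⟨K0, rfl⟩ := o3 v hv
    obtain ⟨m0, a1, a2⟩ := T.exists_M φ K0
    refine Nat.card_congr (Equiv.subtypeEquiv (Equiv.mulLeft (⟨m0, a1⟩ : T.M φ)⁻¹) fun m => ?_)
    have a3 := a2.inv.mul (hK' m)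
    rw [Subgroup.mem_subgroupOf]
    refine ⟨fun e => ⟨T.G0_le φ (hM (Subtype.property _)), _, a3.congr ?_ fun _ => rfl⟩,
      fun ⟨_, _, e⟩ => by rw [← inv_mul_eq_one.1 (a3.unique e)]⟩
    rw [Wl.W_inv, ← Wl.W_append]
    refine T.wl.W_eq_one fun i => ?_
    rw [Wl.W_append, ← Wl.W_inv, ← h3, ← a2.iso, ← e, LinearEquiv.mul_apply,
      show ∀ v, T.wl.W K0 ((T.wl.W K0)⁻¹ v) = v from (T.wl.W K0).apply_symm_apply, (hK' m).iso, hρ]
    exact one_pos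

end Cfsg.Agent.H3.TwOrd
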